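import Cfsg.Agent.Lib.MinIndex.Unitary.Basic
import Cfsg.Agent.Lib.Geometric.UnitaryVectors

/-!
Transitivity of the Eichler elements of a nondegenerate subspace on its vectors of given norm, and
their generation by transvections in dimension four and more.
-/

set_option autoImplicit false
set_option linter.unusedSectionVars false

namespace CfsgLib.MinIndexUnitary

open CfsgLib.Geometric CfsgLib.Geometric.Unitary Module

variable {ι : Type} [Fintype ι] [DecidableEq ι] {F : Type*} [Field F]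
variable {σ : F ≃+* F} {f : (ι → F) → (ι → F) → F}
variable (hf : IsSkewForm σ f) [Finite F] {S : Submodule F (ι → F)}
include hf

/-- The vectors of `S` orthogonal to an anisotropic one. -/
lemma perp_one (hS : Cfsg.Geo.IsNondegenerateOn f S) {w : ι → F} (hw : w ∈ S) (hww : f w w ≠ 0) :
    Cfsg.Geo.IsNondegenerateOn f (S ⊓ LinearMap.ker (fl hf w)) ∧
      finrank F (S ⊓ LinearMap.ker (fl hf w) : Submodule F (ι → F)) + 1 = finrank F S := by
  constructor
  · rintro x ⟨hxS, hxw⟩ hx0
    obtain ⟨y, hy, hne⟩ := (hS x hxS hx0).2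
    set y' := y - (f y w / f w w) • w with hy'
    have hmem : y' ∈ S ⊓ LinearMap.ker (fl hf w) :=
      ⟨S.sub_mem hy (S.smul_mem _ hw), by
        show f y' w = 0
        rw [hy', sub_left hf, hf.smul_left, div_mul_cancel₀ _ hww, sub_self]⟩
    have h : f x y' ≠ 0 := by
      rw [hy', sub_right hf, smul_right hf, show f x w = 0 from hxw, mul_zero, sub_zero]; exact hne
    exact ⟨⟨y', hmem, fun h0 => h ((eq_zero_comm hf).1 h0)⟩, ⟨y', hmem, h⟩⟩
  · let L : S →ₗ[F] F := (fl hf w).comp S.subtype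
    have hL : Function.Surjective L := fun t => ⟨⟨(t / f w w) • w, S.smul_mem _ hw⟩, by
      simp [L, div_mul_cancel₀ _ hww]⟩
    have hmap : L.ker.map S.subtype = S ⊓ LinearMap.ker (fl hf w) := by
      ext x
      exact ⟨by rintro ⟨y, hy, rfl⟩; exact ⟨y.2, hy⟩, fun h => ⟨⟨x, h.1⟩, h.2, rfl⟩⟩
    have h := L.finrank_range_add_finrank_ker
    rw [LinearMap.range_eq_top.2 hL, finrank_top, Module.finrank_self] at h
    rw [← hmap, ← (Submodule.equivMapOfInjective _ S.injective_subtype _).finrank_eq]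
    omega

/-- An isotropic vector of a nondegenerate subspace not orthogonal to a given one. -/
lemma exists_iso_not_perp (hS : Cfsg.Geo.IsNondegenerateOn f S) (h2 : 2 ≤ finrank F S)
    {x : ι → F} (hx : x ∈ S) (hx0 : x ≠ 0) : ∃ u ∈ S, f u u = 0 ∧ f x u ≠ 0 := by
  obtain ⟨u, hu, hu0, huu⟩ := exists_isotropic hf hS h2
  by_cases hxu : f x u = 0
  · have hker : ∀ z, z ∈ S → z ≠ 0 → ¬ S ≤ LinearMap.ker (fl hf z) := by
      intro z hz hz0 hle
      obtain ⟨w, hw, hne⟩ := (hS z hz hz0).1
      exact hne (by simpa using hle hw)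
    obtain ⟨p, hp, hpx, hpu⟩ := exists_mem_notMem_notMem (hker x hx hx0) (hker u hu hu0)
    simp only [LinearMap.mem_ker, fl_apply] at hpx hpu
    obtain ⟨l, hl⟩ := exists_isotropic_shift hf huu hpu
    refine ⟨p + l • u, S.add_mem hp (S.smul_mem _ hu), hl, ?_⟩
    rw [add_right hf, smul_right hf, hxu, mul_zero, add_zero]
    exact hpx ∘ (eq_zero_comm hf).mp
  · exact ⟨u, hu, huu, hxu⟩

/-- The Eichler elements move a vector to any other of the same norm. -/
theorem exists_move_el (hS : Cfsg.Geo.IsNondegenerateOn f S) (hd : 3 ≤ finrank F S)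
    {H : Subgroup (GS hf S)} (hH : ∀ u v c, el hf S u v c ∈ H) {x y : ι → F} (hx : x ∈ S)
    (hy : y ∈ S) (hx0 : x ≠ 0) (hy0 : y ≠ 0) (hxy : f y y = f x x) :
    ∃ g ∈ H, ap (g : GL ι F) x = y := by
  have direct : ∀ x y : ι → F, x ∈ S → y ∈ S → f y y = f x x → f x y ≠ f x x →
      (f x x ≠ 0 → y ∉ Submodule.span F {x}) → ∃ g ∈ H, ap (g : GL ι F) x = y := by
    intro x y hx hy hn hne hli
    set w := y - x with hw
    have hwS : w ∈ S := S.sub_mem hy hx
    have hsk : f y x = -σ (f x y) := hf.skew y x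
    have hxw : f x w = f x y - f x x := by rw [hw, sub_right hf]
    have hxw0 : f x w ≠ 0 := by rw [hxw]; exact sub_ne_zero.2 hne
    by_cases hww : f w w = 0
    · have hfix : σ ((f x w)⁻¹) = (f x w)⁻¹ := by
        have e : f w w = 2 * f x x - f x y + σ (f x y) := by
          rw [hw, sub_left hf, sub_right hf, sub_right hf, hn, hsk]; ring
        rw [map_inv₀, hxw, map_sub, skew_self hf]
        congr 1
        linear_combination hww - e
      refine ⟨el hf S w 0 (f x w)⁻¹, hH _ _ _, ?_⟩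
      rw [ap_el hf hwS S.zero_mem hww (zero_left hf w) (valid_fix hf hfix), inv_mul_cancel₀ hxw0,
        smul_zero, zero_right hf, zero_smul, one_smul, hw]
      abel
    · obtain ⟨hW, hWd⟩ := perp_one hf hS hwS hww
      set x' := x - (f x w / f w w) • w with hx'
      have hx'W : x' ∈ S ⊓ LinearMap.ker (fl hf w) := ⟨S.sub_mem hx (S.smul_mem _ hwS), by
        show f x' w = 0
        rw [hx', sub_left hf, hf.smul_left, div_mul_cancel₀ _ hww, sub_self]⟩
      have hx'0 : x' ≠ 0 := by
        intro h0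
        rw [hx', sub_eq_zero] at h0
        obtain ⟨k, hk', hk⟩ : ∃ k, f x w / f w w = k ∧ k ≠ 0 := ⟨_, rfl, div_ne_zero hxw0 hww⟩
        rw [hk'] at h0
        refine hli ?_ (Submodule.mem_span_singleton.2 ⟨k⁻¹ + 1, ?_⟩)
        · rw [h0, hf.smul_left, smul_right hf]
          exact mul_ne_zero hk (mul_ne_zero ((map_ne_zero_iff _ σ.injective).2 hk) hww)
        · have : k⁻¹ • x = w := by rw [h0, smul_smul, inv_mul_cancel₀ hk, one_smul]
          rw [add_smul, one_smul, this, hw]; abel
      obtain ⟨u, ⟨hu, huw⟩, huu, hxu⟩ := exists_iso_not_perp hf hW (by omega) hx'W hx'0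
      have hxu' : f x u ≠ 0 := by
        have e : f x' u = f x u := by
          rw [hx', sub_left hf, hf.smul_left, (eq_zero_comm hf).1 (show f u w = 0 from huw),
            mul_zero, sub_zero]
        rwa [e] at hxu
      set u' := σ (f x u)⁻¹ • u with hu'
      have h1 : f x u' = 1 := by rw [hu', smul_right hf, hf.involutive, inv_mul_cancel₀ hxu']
      have h2 : f y u' = 1 := by
        have h3 : f w u' = 0 := by
          rw [hu', smul_right hf, (eq_zero_comm hf).1 (show f u w = 0 from huw), mul_zero]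
        rw [hw, sub_left hf, h1, sub_eq_zero] at h3
        exact h3
      have hu'S : u' ∈ S := S.smul_mem _ hu
      have hu'u : f u' u' = 0 := isotropic_smul hf huu _
      obtain ⟨hvu, c, hc, hm⟩ := exists_E_move hf hu'u h1 h2 hn
      refine ⟨el hf S u' (y - x) c, hH _ _ _, ?_⟩
      rw [ap_el hf hu'S hwS hu'u hvu hc, ← ap_E (hu := hu'u) (hvu := hvu) hf]
      exact hm
  by_cases hdir : f x y ≠ f x x ∧ (f x x ≠ 0 → y ∉ Submodule.span F {x})
  · exact direct x y hx hy hxy hdir.1 hdir.2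
  obtain ⟨z, hz, hzz, h1, h2, h3, h4⟩ : ∃ z, z ∈ S ∧ f z z = f x x ∧ f x z ≠ f x x ∧
      (f x x ≠ 0 → z ∉ Submodule.span F {x}) ∧ f z y ≠ f z z ∧
      (f z z ≠ 0 → y ∉ Submodule.span F {z}) := by
    by_cases hxx : f x x = 0
    · have hxy0 : f x y = 0 := by
        by_contra h
        exact hdir ⟨by rwa [hxx], fun h' => absurd hxx h'⟩
      have hker : ∀ z, z ∈ S → z ≠ 0 → ¬ S ≤ LinearMap.ker (fl hf z) := by
        intro z hz hz0 hle
        obtain ⟨w, hw, hne⟩ := (hS z hz hz0).1
        exact hne (by simpa using hle hw)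
      obtain ⟨p, hp, hpx, hpy⟩ := exists_mem_notMem_notMem (hker x hx hx0) (hker y hy hy0)
      simp only [LinearMap.mem_ker, fl_apply] at hpx hpy
      obtain ⟨l, hl⟩ := exists_isotropic_shift hf hxx hpx
      refine ⟨p + l • x, S.add_mem hp (S.smul_mem l hx), by rw [hl, hxx], ?_,
        fun h => absurd hxx h, ?_, fun h => absurd hl h⟩
      · rw [hxx, add_right hf, smul_right hf, hxx, mul_zero, add_zero]
        exact hpx ∘ (eq_zero_comm hf).mp
      · rw [hl, hf.add_left, hf.smul_left, hxy0, mul_zero, add_zero]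
        exact hpy
    · obtain ⟨hW, hWd⟩ := perp_one hf hS hx hxx
      obtain ⟨e, ⟨heS, hex⟩, hee⟩ := exists_anisotropic hf hW fun hb => by
        rw [hb, finrank_bot] at hWd; omega
      obtain ⟨ν, hν⟩ := exists_norm hf (c := f x x / f e e) (by
        rw [map_div₀, skew_self hf, skew_self hf, neg_div_neg_eq])
      obtain ⟨ε, _, hε, -, hε1, -, -⟩ := exists_norm_one_two hf
      have hcand : ∀ η : F, η * σ η = 1 → f (η • ν • e) (η • ν • e) = f x x := fun η hη => by
        simp only [hf.smul_left, smul_right hf]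
        linear_combination (ν * σ ν * f e e) * hη + f e e * hν + div_mul_cancel₀ (f x x) hee
      have hperp : ∀ η : F, f x (η • ν • e) = 0 := fun η => by
        rw [smul_right hf, smul_right hf, (eq_zero_comm hf).1 (show f e x = 0 from hex),
          mul_zero, mul_zero]
      have hfin : ∀ η : F, η * σ η = 1 → f (η • ν • e) y ≠ f x x →
          ∃ z, z ∈ S ∧ f z z = f x x ∧ f x z ≠ f x x ∧
          (f x x ≠ 0 → z ∉ Submodule.span F {x}) ∧ f z y ≠ f z z ∧
          (f z z ≠ 0 → y ∉ Submodule.span F {z}) := fun η hη hne => by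
        refine ⟨η • ν • e, S.smul_mem _ (S.smul_mem _ heS), hcand η hη, ?_, fun _ hsp => ?_, ?_,
          fun _ hsp => ?_⟩
        · rw [hperp]; exact Ne.symm hxx
        · obtain ⟨l, hl⟩ := Submodule.mem_span_singleton.1 hsp
          have h := hperp η
          rw [← hl, smul_right hf, mul_eq_zero] at h
          have hl0 : σ l = 0 := h.resolve_right hxx
          rw [EmbeddingLike.map_eq_zero_iff] at hl0
          have h' := hcand η hη
          rw [← hl, hl0, zero_smul, zero_left hf] at h'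
          exact hxx h'.symm
        · rw [hcand η hη]; exact hne
        · obtain ⟨l, hl⟩ := Submodule.mem_span_singleton.1 hsp
          have hxy' : f x y = 0 := by rw [← hl, smul_right hf, hperp, mul_zero]
          apply hdir
          refine ⟨by rw [hxy']; exact Ne.symm hxx, fun _ hsp' => ?_⟩
          obtain ⟨l', hl'⟩ := Submodule.mem_span_singleton.1 hsp'
          rw [← hl', smul_right hf, mul_eq_zero, EmbeddingLike.map_eq_zero_iff] at hxy'
          exact hy0 (by rw [← hl', hxy'.resolve_right hxx, zero_smul])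
      by_cases h1 : f ((1 : F) • ν • e) y = f x x
      · refine hfin ε hε fun h => hε1 ?_
        rw [one_smul] at h1
        rw [hf.smul_left, h1] at h
        exact mul_right_cancel₀ hxx (by rw [one_mul]; exact h)
      · exact hfin 1 (by rw [map_one, mul_one]) h1
  obtain ⟨g1, hg1, e1⟩ := direct x z hx hz hzz h1 h2
  obtain ⟨g2, hg2, e2⟩ := direct z y hz hy (hxy.trans hzz.symm) h3 h4
  exact ⟨g2 * g1, mul_mem hg2 hg1, by rw [Subgroup.coe_mul, ap_mul, e1, e2]⟩

/-- In dimension four and more the Eichler elements are products of transvections. -/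
theorem el_mem_of_T (hS : Cfsg.Geo.IsNondegenerateOn f S) (hd : 4 ≤ finrank F S)
    {H : Subgroup (GS hf S)} (hH : ∀ u c, el hf S u 0 c ∈ H) (u v : ι → F) (c : F) :
    el hf S u v c ∈ H := by
  by_cases h : u ∈ S ∧ v ∈ S ∧ f u u = 0 ∧ f v u = 0 ∧ c - σ c = f v v
  swap
  · rw [el_not hf h]; exact one_mem H
  obtain ⟨hu, hv, huu, hvu, hc⟩ := h
  have iso : ∀ v : ι → F, v ∈ S → f v u = 0 → f v v = 0 → ∀ c, σ c = c → el hf S u v c ∈ H := by
    intro v hv hvu hvv c hc
    have huv : f (u + v) (u + v) = 0 := by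
      rw [hf.add_left, add_right hf, add_right hf, huu, hvv, hvu, (eq_zero_comm hf).mp hvu]; ring
    have e : el hf S (u + v) 0 1 * el hf S u 0 (-1) * el hf S v 0 (-1) = el hf S u v 0 := by
      refine gs_ext hf fun x => ?_
      have h1 : (-1 : F) - σ (-1) = f (0 : ι → F) 0 := valid_fix hf (by simp)
      rw [Subgroup.coe_mul, Subgroup.coe_mul, ap_mul, ap_mul,
        ap_el hf hv S.zero_mem hvv (zero_left hf v) h1, ap_el hf hu S.zero_mem huu (zero_left hf u) h1,
        ap_el hf (S.add_mem hu hv) S.zero_mem huv (zero_left hf _) (valid_fix hf (map_one σ)),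
        ap_el hf hu hv huu hvu (by rw [map_zero, sub_zero, hvv])]
      simp only [smul_zero, zero_left hf, zero_right hf, zero_smul, hf.add_left, hf.smul_left, add_right hf,
        huu, hvv, hvu, (eq_zero_comm hf).mp hvu]
      module
    have h2 := mul_mem (mul_mem (mul_mem (hH (u + v) 1) (hH u (-1))) (hH v (-1))) (hH u c)
    rw [e, el_mul hf hu hv S.zero_mem huu hvu (zero_left hf u) (by rw [map_zero, sub_zero, hvv])
      (valid_fix hf hc), add_zero, zero_left hf, zero_add, add_zero] at h2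
    exact h2
  by_cases hvv : f v v = 0
  · exact iso v hv hvu hvv c (by rw [hvv, sub_eq_zero] at hc; exact hc.symm)
  obtain ⟨hW, hWd⟩ := perp_one hf hS hv hvv
  set W := S ⊓ LinearMap.ker (fl hf v)
  obtain ⟨e, ⟨⟨heS, hev⟩, heu⟩, hee⟩ : ∃ e ∈ W ⊓ LinearMap.ker (fl hf u), f e e ≠ 0 := by
    by_contra hcon
    push Not at hcon
    by_cases hu0 : u = 0
    · obtain ⟨e, he, hee⟩ := exists_anisotropic hf hW fun hb => by rw [hb, finrank_bot] at hWd; omega
      exact hee (hcon e ⟨he, by show f e u = 0; rw [hu0, zero_right hf]⟩)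
    have huW : u ∈ W := ⟨hu, (eq_zero_comm hf).1 hvu⟩
    obtain ⟨p, hpW, hpu⟩ := (hW u huW hu0).1
    obtain ⟨l, hl⟩ := exists_isotropic_shift hf huu hpu
    set p' := p + l • u
    have hp'W : p' ∈ W := W.add_mem hpW (W.smul_mem l huW)
    have hp'u : f p' u ≠ 0 := by rwa [hf.add_left, hf.smul_left, huu, mul_zero, add_zero]
    have P : IsPair f W u ((f p' u)⁻¹ • p') :=
      ⟨huW, W.smul_mem _ hp'W, huu, isotropic_smul hf hl _,
        by rw [hf.smul_left, inv_mul_cancel₀ hp'u]⟩
    have hM := mid_nondeg hf P hW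
    obtain ⟨e, he, hee⟩ := exists_anisotropic hf hM fun hb => by
      have := finrank_mid hf P
      rw [hb, finrank_bot] at this; omega
    exact hee (hcon e ⟨(mem_mid.1 he).1, (mem_mid.1 he).2.1⟩)
  obtain ⟨v₁, v₂, hv₁, hv₂, hi₁, hi₂, hsum⟩ := exists_isotropic_add hf
    (S := S ⊓ LinearMap.ker (fl hf u)) (x := v) (e := e) ⟨hv, hvu⟩ ⟨heS, heu⟩ hee
    ((eq_zero_comm hf).1 hev)
  subst hsum
  have h0 := mul_mem (iso v₁ hv₁.1 hv₁.2 hi₁ 0 (map_zero σ)) (iso v₂ hv₂.1 hv₂.2 hi₂ 0 (map_zero σ))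
  rw [el_mul hf hu hv₁.1 hv₂.1 huu hv₁.2 hv₂.2 (by rw [map_zero, sub_zero, hi₁])
    (by rw [map_zero, sub_zero, hi₂])] at h0
  set c₀ := (0 : F) + 0 + f v₂ v₁
  have hc₀ : c₀ - σ c₀ = f (v₁ + v₂) (v₁ + v₂) :=
    valid_add hf (by rw [map_zero, sub_zero, hi₁]) (by rw [map_zero, sub_zero, hi₂])
  have hd' : σ (c - c₀) = c - c₀ := by rw [map_sub]; linear_combination hc₀ - hc
  have h1 := mul_mem h0 (hH u (c - c₀))
  rwa [el_mul hf hu hv S.zero_mem huu hvu (zero_left hf u) hc₀ (valid_fix hf hd'), add_zero,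
    zero_left hf, add_zero, add_sub_cancel] at h1

end CfsgLib.MinIndexUnitary
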