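import Cfsg.Agent.Lib.MinIndex.Unitary.Counts
import Cfsg.Agent.Lib.MinIndex.Unitary.Move

/-!
The root group of a hyperbolic pair in an action: the fixed transvections, the projection of the
stabiliser and the size and invariants of its orbits.
-/

set_option autoImplicit false
set_option linter.unusedSectionVars false

namespace CfsgLib.MinIndexUnitary

open CfsgLib.Geometric CfsgLib.Geometric.Unitary Module MulAction
open scoped Pointwise

variable {ι : Type} [Fintype ι] [DecidableEq ι] {F : Type*} [Field F] [Finite F]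
variable {σ : F ≃+* F} {f : (ι → F) → (ι → F) → F}
variable {hf : IsSkewForm σ f} {S W : Submodule F (ι → F)}

/-- The group of a subspace acting on its vectors. -/
noncomputable instance : DistribMulAction (GS hf W) W where
  smul g x := ⟨ap (g : GL ι F) x, ap_GS_mem hf g x.2⟩
  one_smul x := Subtype.ext (ap_one (x : ι → F))
  mul_smul g h x := Subtype.ext (ap_mul (g : GL ι F) h x)
  smul_zero g := Subtype.ext (ap_zero (g : GL ι F))
  smul_add g x y := Subtype.ext (ap_add (g : GL ι F) x y)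

lemma coe_GS_smul (g : GS hf W) (x : W) : ((g • x : W) : ι → F) = ap (g : GL ι F) x := rfl

lemma GS_mono (h : W ≤ S) : GS hf W ≤ GS hf S := fun _ hg =>
  ⟨hg.1, fun x hx => hg.2 x fun y hy => hx y (h hy)⟩

/-- The group of the orthogonal complement inside the ambient one. -/
noncomputable abbrev incl (a b : ι → F) : GS hf (mid hf S a b) →* GS hf S :=
  Subgroup.inclusion (GS_mono inf_le_left)

variable {a b : ι → F}

lemma incl_fix (_P : IsPair f S a b) (g : GS hf (mid hf S a b)) :
    ap (incl a b g : GL ι F) a = a ∧ ap (incl a b g : GL ι F) b = b :=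
  ⟨g.2.2 a fun _ hy => (eq_zero_comm hf).1 (mem_mid.1 hy).2.1,
    g.2.2 b fun _ hy => (eq_zero_comm hf).1 (mem_mid.1 hy).2.2⟩

lemma incl_el {u v : ι → F} {c : F} (hu : u ∈ mid hf S a b) (hv : v ∈ mid hf S a b)
    (huu : f u u = 0) (hvu : f v u = 0) (hc : c - σ c = f v v) :
    incl a b (el hf (mid hf S a b) u v c) = el hf S u v c := by
  refine gs_ext hf fun x => ?_
  rw [ap_el hf (mem_mid.1 hu).1 (mem_mid.1 hv).1 huu hvu hc]
  exact ap_el hf hu hv huu hvu hc x

variable (P : IsPair f S a b)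

variable (hf) in
/-- The root group of a pair. -/
def qGrp (P : IsPair f S a b) : Subgroup (GS hf S) where
  carrier := {g | ∃ m ∈ mid hf S a b, ∃ c, c - σ c = f m m ∧ g = el hf S a m c}
  one_mem' := ⟨0, Submodule.zero_mem _, 0, valid_fix hf (map_zero σ), (el_zero hf P.ha P.haa).symm⟩
  mul_mem' := by
    rintro _ _ ⟨m, hm, c, hc, rfl⟩ ⟨m', hm', c', hc', rfl⟩
    exact ⟨m + m', Submodule.add_mem _ hm hm', _, valid_add hf hc hc',
      el_mul hf P.ha (mem_mid.1 hm).1 (mem_mid.1 hm').1 P.haa (mem_mid.1 hm).2.1 (mem_mid.1 hm').2.1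
        hc hc'⟩
  inv_mem' := by
    rintro _ ⟨m, hm, c, hc, rfl⟩
    refine ⟨-m, Submodule.neg_mem _ hm, -σ c, ?_,
      el_inv hf P.ha (mem_mid.1 hm).1 P.haa (mem_mid.1 hm).2.1 hc⟩
    rw [map_neg, hf.involutive, neg_left hf, neg_right hf, neg_neg, ← hc]; ring

variable {Ω : Type*} [MulAction (GS hf S) Ω]

lemma el_mul_mid (P : IsPair f S a b) {m m' : ι → F} {c c' : F} (hm : m ∈ mid hf S a b)
    (hm' : m' ∈ mid hf S a b) (hc : c - σ c = f m m) (hc' : c' - σ c' = f m' m') :
    el hf S a m c * el hf S a m' c' = el hf S a (m + m') (c + c' + f m' m) :=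
  el_mul hf P.ha (mem_mid.1 hm).1 (mem_mid.1 hm').1 P.haa (mem_mid.1 hm).2.1 (mem_mid.1 hm').2.1
    hc hc'

variable (hf) in
/-- The transvections of the pair fixing a point. -/
def kz (P : IsPair f S a b) (z : Ω) : AddSubgroup F where
  carrier := {c | σ c = c ∧ el hf S a 0 c • z = z}
  zero_mem' := ⟨map_zero σ, by rw [el_zero hf P.ha P.haa, one_smul]⟩
  add_mem' := fun {c d} hc hd => ⟨by rw [map_add, hc.1, hd.1], by
    have h := el_mul_mid (hf := hf) P (Submodule.zero_mem _) (Submodule.zero_mem _) (valid_fix hf hc.1)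
      (valid_fix hf hd.1)
    rw [add_zero, zero_left hf, add_zero] at h
    rw [← h, mul_smul, hd.2, hc.2]⟩
  neg_mem' := fun {c} hc => ⟨by rw [map_neg, hc.1], by
    have h := el_inv hf P.ha S.zero_mem P.haa (zero_left hf a) (valid_fix hf hc.1)
    rw [neg_zero, hc.1] at h
    rw [← h, inv_smul_eq_iff, hc.2]⟩

variable (hf) in
/-- The vectors occurring in root elements fixing a point. -/
def az (P : IsPair f S a b) (z : Ω) : AddSubgroup (mid hf S a b) where
  carrier := {m | ∃ c, c - σ c = f (m : ι → F) m ∧ el hf S a m c • z = z}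
  zero_mem' := ⟨0, valid_fix hf (map_zero σ), by
    rw [Submodule.coe_zero, el_zero hf P.ha P.haa, one_smul]⟩
  add_mem' := by
    rintro m m' ⟨c, hc, h⟩ ⟨c', hc', h'⟩
    refine ⟨_, valid_add hf hc hc', ?_⟩
    rw [Submodule.coe_add, ← el_mul_mid P m.2 m'.2 hc hc', mul_smul, h', h]
  neg_mem' := by
    rintro m ⟨c, hc, h⟩
    refine ⟨-σ c, ?_, ?_⟩
    · rw [map_neg, hf.involutive, Submodule.coe_neg, neg_left hf, neg_right hf, neg_neg, ← hc]; ring
    · rw [Submodule.coe_neg,
        ← el_inv hf P.ha (mem_mid.1 m.2).1 P.haa (mem_mid.1 m.2).2.1 hc, inv_smul_eq_iff, h]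

lemma kz_le (z : Ω) : kz hf P z ≤ fixF σ := fun _ h => h.1

lemma kz_lt_iff (z : Ω) :
    kz hf P z < fixF σ ↔ ∃ c, σ c = c ∧ el hf S a 0 c • z ≠ z := by
  constructor
  · intro h
    obtain ⟨c, hc, hn⟩ := SetLike.exists_of_lt h
    exact ⟨c, hc, fun he => hn ⟨hc, he⟩⟩
  · rintro ⟨c, hc, hn⟩
    exact lt_of_le_of_ne (kz_le P z) fun e => hn ((e.ge hc : c ∈ kz hf P z).2)

lemma om_mem_kz (z : Ω) {x y : mid hf S a b} (hx : x ∈ az hf P z) (hy : y ∈ az hf P z) :
    om f (x : ι → F) y ∈ kz hf P z := by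
  obtain ⟨c, hc, h⟩ := hx
  obtain ⟨d, hd, h'⟩ := hy
  refine ⟨om_fix hf _ _, ?_⟩
  have h1 : el hf S a x c • el hf S a y d • z = z := by rw [h', h]
  have h2 : el hf S a y d • el hf S a x c • z = z := by rw [h, h']
  rw [← mul_smul, el_mul_mid P x.2 y.2 hc hd] at h1
  rw [← mul_smul, el_mul_mid P y.2 x.2 hd hc, add_comm (y : ι → F) x] at h2
  have hv : (d + c + f (x : ι → F) y) - σ (d + c + f (x : ι → F) y) = f (↑x + ↑y : ι → F) (↑x + ↑y) := by
    rw [add_comm (x : ι → F) y]; exact valid_add hf hd hc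
  have h3 := el_mul_mid (hf := hf) P (Submodule.add_mem _ x.2 y.2) (Submodule.zero_mem _) hv
    (valid_fix hf (om_fix hf (x : ι → F) y))
  rw [add_zero, zero_left hf, add_zero,
    show d + c + f (x : ι → F) y + om f (x : ι → F) y = c + d + f (y : ι → F) x by rw [om]; ring] at h3
  rw [← h3, mul_smul] at h1
  exact smul_left_cancel _ (h1.trans h2.symm)

lemma card_qGrp : Nat.card (qGrp hf P)
    = qq σ ^ (2 * finrank F (mid hf S a b)) * qq σ := by
  classical
  let e : (Σ m : mid hf S a b, {c : F // c - σ c = f (m : ι → F) m}) → qGrp hf P :=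
    fun p => ⟨el hf S a p.1 p.2, p.1, p.1.2, p.2, p.2.2, rfl⟩
  have he : Function.Bijective e := by
    refine ⟨fun p q h => ?_, ?_⟩
    · obtain ⟨h1, h2⟩ := el_injective hf P p.1.2 q.1.2 p.2.2 q.2.2 (congrArg Subtype.val h)
      obtain ⟨⟨m, hm⟩, c, hc⟩ := p
      obtain ⟨⟨m', hm'⟩, c', hc'⟩ := q
      cases h1; cases h2; rfl
    · rintro ⟨_, m, hm, c, hc, rfl⟩
      exact ⟨⟨⟨m, hm⟩, c, hc⟩, rfl⟩
  have := Fintype.ofFinite (mid hf S a b)
  rw [← Nat.card_eq_of_bijective e he, Nat.card_sigma,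
    Finset.sum_congr rfl (fun (m : mid hf S a b) _ => card_valid hf (skew_self hf (m : ι → F))),
    Finset.sum_const, Finset.card_univ, smul_eq_mul, ← Nat.card_eq_fintype_card, card_submodule hf]

/-- The orbit of a point under the root group. -/
lemma card_qOrbit (z : Ω) :
    Nat.card (orbit (qGrp hf P) z) * (Nat.card (az hf P z) * Nat.card (kz hf P z))
      = qq σ ^ (2 * finrank F (mid hf S a b)) * qq σ := by
  classical
  choose c hc hfix using fun m : az hf P z => m.2
  let e : az hf P z × kz hf P z → stabilizer (qGrp hf P) z := fun p =>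
    ⟨⟨el hf S a (p.1 : mid hf S a b) (c p.1 + p.2), (p.1 : mid hf S a b), p.1.1.2, _, by
      rw [map_add, p.2.2.1, ← hc p.1]; ring, rfl⟩, by
      show el hf S a ((p.1 : mid hf S a b) : ι → F) (c p.1 + p.2) • z = z
      have h := el_mul_mid (hf := hf) P p.1.1.2 (Submodule.zero_mem _) (hc p.1) (valid_fix hf p.2.2.1)
      rw [add_zero, zero_left hf, add_zero] at h
      rw [← h, mul_smul, p.2.2.2, hfix]⟩
  have he : Function.Bijective e := by
    refine ⟨fun p q h => ?_, ?_⟩
    · obtain ⟨h1, h2⟩ := el_injective hf P p.1.1.2 q.1.1.2 (by rw [map_add, p.2.2.1, ← hc p.1]; ring)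
        (by rw [map_add, q.2.2.1, ← hc q.1]; ring)
        (congrArg (fun s : stabilizer (qGrp hf P) z => ((s : qGrp hf P) : GS hf S)) h)
      have h3 : p.1 = q.1 := Subtype.ext (Subtype.ext h1)
      refine Prod.ext h3 (Subtype.ext ?_)
      rw [h3] at h2
      exact add_left_cancel h2
    · rintro ⟨⟨_, m, hm, d, hd, rfl⟩, hs⟩
      have hm' : (⟨m, hm⟩ : mid hf S a b) ∈ az hf P z := ⟨d, hd, hs⟩
      have hk : d - c ⟨_, hm'⟩ ∈ kz hf P z := by
        have hfx : σ (d - c ⟨_, hm'⟩) = d - c ⟨_, hm'⟩ := by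
          rw [map_sub]; linear_combination hc ⟨_, hm'⟩ - hd
        refine ⟨hfx, ?_⟩
        have h := el_mul_mid (hf := hf) P hm (Submodule.zero_mem _) (hc ⟨_, hm'⟩) (valid_fix hf hfx)
        rw [add_zero, zero_left hf, add_zero, add_sub_cancel] at h
        refine smul_left_cancel (el hf S a m (c ⟨_, hm'⟩)) ?_
        rw [← mul_smul, h, hfix ⟨_, hm'⟩]
        exact hs
      exact ⟨(⟨_, hm'⟩, ⟨_, hk⟩), Subtype.ext (Subtype.ext (by
        show el hf S a m (c ⟨_, hm'⟩ + (d - c ⟨_, hm'⟩)) = el hf S a m d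
        rw [add_sub_cancel]))⟩
  rw [← card_qGrp P, ← Nat.card_prod, Nat.card_eq_of_bijective e he, Nat.card_coe_set_eq,
    ← MulAction.index_stabilizer, mul_comm, Subgroup.card_mul_index]

/-- Conjugating the root elements by an element fixing the two points. -/
lemma kz_smul {g : GS hf S} {α : F} (hα : α ≠ 0) (hga : ap (g : GL ι F) a = α • a) (z : Ω) :
    kz hf P (g • z) = (kz hf P z).map (AddMonoidHom.mulLeft (α * σ α)) := by
  have hn : σ (α * σ α) = α * σ α := by rw [map_mul, hf.involutive, mul_comm]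
  have hn0 : α * σ α ≠ 0 := mul_ne_zero hα ((map_ne_zero_iff _ σ.injective).2 hα)
  have key : ∀ c : F, σ c = c → g * el hf S a 0 c * g⁻¹ = el hf S a 0 (α * σ α * c) := fun c hc => by
    rw [el_conj hf g P.ha S.zero_mem P.haa (zero_left hf a) (valid_fix hf hc), hga, ap_zero,
      el_smul_fst hf α P.ha S.zero_mem P.haa (zero_left hf a) (valid_fix hf hc), smul_zero]
  ext c
  constructor
  · rintro ⟨hc, h⟩
    have hc' : σ ((α * σ α)⁻¹ * c) = (α * σ α)⁻¹ * c := by rw [map_mul, map_inv₀, hn, hc]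
    refine ⟨_, ⟨hc', smul_left_cancel g ?_⟩, mul_inv_cancel_left₀ hn0 c⟩
    have hk := key _ hc'
    rw [mul_inv_cancel_left₀ hn0] at hk
    rw [← hk, mul_smul, mul_smul, inv_smul_smul] at h
    exact h
  · rintro ⟨d, ⟨hd, h⟩, rfl⟩
    refine ⟨show σ (α * σ α * d) = α * σ α * d by rw [map_mul, hn, hd], ?_⟩
    show el hf S a 0 (α * σ α * d) • g • z = g • z
    rw [← key d hd, mul_smul, mul_smul, inv_smul_smul, h]

lemma az_incl_smul (g : GS hf (mid hf S a b)) (z : Ω) :
    az hf P (incl a b g • z) = g • az hf P z := by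
  obtain ⟨hga, -⟩ := incl_fix P g
  have key : ∀ (m : mid hf S a b) (c : F), c - σ c = f (m : ι → F) m →
      incl a b g * el hf S a m c * (incl a b g)⁻¹ = el hf S a (g • m : mid hf S a b) c :=
    fun m c hc => by
      rw [el_conj hf _ P.ha (mem_mid.1 m.2).1 P.haa (mem_mid.1 m.2).2.1 hc, hga]
      rfl
  have hv : ∀ (m : mid hf S a b), f ((g • m : mid hf S a b) : ι → F) (g • m : mid hf S a b)
      = f (m : ι → F) m := fun m => f_GS hf g _ _
  ext m
  rw [AddSubgroup.mem_pointwise_smul_iff_inv_smul_mem]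
  constructor
  · rintro ⟨c, hc, h⟩
    have hc' : c - σ c = f ((g⁻¹ • m : mid hf S a b) : ι → F) (g⁻¹ • m : mid hf S a b) := by
      rw [hc, ← hv (g⁻¹ • m), smul_inv_smul]
    refine ⟨c, hc', smul_left_cancel (incl a b g) ?_⟩
    have hk := key _ c hc'
    rw [smul_inv_smul] at hk
    rwa [← hk, mul_smul, mul_smul, inv_smul_smul] at h
  · rintro ⟨c, hc, h⟩
    refine ⟨c, by rw [hc, ← hv (g⁻¹ • m), smul_inv_smul], ?_⟩
    have hk := key _ c hc
    rw [smul_inv_smul] at hk
    rw [← hk, mul_smul, mul_smul, inv_smul_smul, h]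

/-- The invariants of an orbit of the root group. -/
lemma invariants_qGrp (z : Ω) (g : qGrp hf P) :
    az hf P (g • z) = az hf P z ∧ kz hf P (g • z) = kz hf P z := by
  obtain ⟨_, m, hm, c, hc, rfl⟩ := g
  have hga : ap (el hf S a m c : GL ι F) a = (1 : F) • a := by
    rw [ap_el hf P.ha (mem_mid.1 hm).1 P.haa (mem_mid.1 hm).2.1 hc, P.haa,
      (eq_zero_comm hf).1 (mem_mid.1 hm).2.1, one_smul]
    simp
  show az hf P (el hf S a m c • z) = _ ∧ kz hf P (el hf S a m c • z) = _
  refine ⟨?_, ?_⟩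
  · have key : ∀ (y : mid hf S a b) (d : F), d - σ d = f (y : ι → F) y → el hf S a y d • z = z →
        ∀ (n : ι → F) (e : F), n ∈ mid hf S a b → e - σ e = f n n →
          el hf S a y (d + om f n (y : ι → F)) • el hf S a n e • z = el hf S a n e • z := by
      intro y d hd h n e hn he
      have hd' : (d + om f n (y : ι → F)) - σ (d + om f n (y : ι → F)) = f (y : ι → F) y := by
        rw [map_add, om_fix hf, ← hd]; ring
      have h1 : el hf S a y (d + om f n (y : ι → F)) * el hf S a n e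
          = el hf S a n e * el hf S a y d * 1 := by
        rw [mul_one, el_mul_mid P y.2 hn hd' he, el_mul_mid P hn y.2 he hd, add_comm n (y : ι → F)]
        congr 1
        rw [om]; ring
      rw [← mul_smul, h1, mul_smul, mul_smul, one_smul, h]
    refine le_antisymm (fun y hy => ?_) fun y hy => ?_
    · obtain ⟨d, hd, h⟩ := hy
      have hc' : -σ c - σ (-σ c) = f (-m) (-m) := by
        rw [map_neg, hf.involutive, neg_left hf, neg_right hf, neg_neg, ← hc]; ring
      have hinv := el_inv hf P.ha (mem_mid.1 hm).1 P.haa (mem_mid.1 hm).2.1 hc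
      have hd' : (d + om f (y : ι → F) m) - σ (d + om f (y : ι → F) m) = f (y : ι → F) y := by
        rw [map_add, om_fix hf, ← hd]; ring
      refine ⟨_, hd', smul_left_cancel (el hf S a m c) ?_⟩
      have h1 : el hf S a y d * el hf S a m c
          = el hf S a m c * el hf S a y (d + om f (y : ι → F) m) := by
        rw [el_mul_mid P y.2 hm hd hc, el_mul_mid P hm y.2 hc hd', add_comm m (y : ι → F)]
        congr 1
        rw [om]; ring
      rw [← mul_smul, ← h1, mul_smul, h]
    · obtain ⟨d, hd, h⟩ := hy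
      exact ⟨_, by rw [map_add, om_fix hf, ← hd]; ring, key y d hd h m c hm hc⟩
  · rw [kz_smul P one_ne_zero hga, map_one, mul_one, AddMonoidHom.mulLeft]
    ext x
    simp

/-- Points with different invariants lie in different orbits. -/
lemma card_mul_le [Finite Ω] {J : Type*} [Finite J] (pt : J → Ω)
    (hinj : Function.Injective fun j => (az hf P (pt j), kz hf P (pt j))) {ω : ℕ}
    (hω : ∀ j, ω ≤ Nat.card (orbit (qGrp hf P) (pt j))) :
    Nat.card J * ω ≤ Nat.card Ω := by
  classical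
  have := Fintype.ofFinite J
  calc Nat.card J * ω = ∑ _j : J, ω := by
        rw [Finset.sum_const, Finset.card_univ, smul_eq_mul, Nat.card_eq_fintype_card]
    _ ≤ ∑ j : J, Nat.card (orbit (qGrp hf P) (pt j)) := Finset.sum_le_sum fun j _ => hω j
    _ = Nat.card (Σ j, orbit (qGrp hf P) (pt j)) := (Nat.card_sigma).symm
    _ ≤ Nat.card Ω := Nat.card_le_card_of_injective (fun p => (p.2 : Ω)) fun p q h => by
        obtain ⟨j, y, g, rfl⟩ := p
        obtain ⟨k, y, g', rfl⟩ := q
        have hjk : j = k := hinj (by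
          obtain ⟨a1, a2⟩ := invariants_qGrp P (pt j) g
          obtain ⟨b1, b2⟩ := invariants_qGrp P (pt k) g'
          change g • pt j = g' • pt k at h
          simp only [← a1, ← a2, ← b1, ← b2, h])
        subst hjk
        exact Sigma.subtype_ext rfl h

end CfsgLib.MinIndexUnitary
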