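import Cfsg.Agent.Lib.Geometric.UnitaryStab

/-!
Hyperbolic pairs inside a nondegenerate subspace of a skew-hermitian space, the group fixing the
orthogonal of the subspace pointwise, its Eichler elements and its torus.
-/

set_option autoImplicit false
set_option linter.unusedSectionVars false

namespace CfsgLib.MinIndexUnitary

open CfsgLib.Geometric CfsgLib.Geometric.Unitary Module
open Matrix (GeneralLinearGroup)

variable {ι : Type} [Fintype ι] [DecidableEq ι] {F : Type*} [Field F]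
variable {σ : F ≃+* F} {f : (ι → F) → (ι → F) → F}

/-- The fixed scalars. -/
def fixF (σ : F ≃+* F) : AddSubgroup F where
  carrier := {c | σ c = c}
  zero_mem' := map_zero σ
  add_mem' {x y} hx hy := show σ (x + y) = x + y by rw [map_add, hx, hy]
  neg_mem' {x} hx := show σ (-x) = -x by rw [map_neg, hx]

lemma mem_fixF {c : F} : c ∈ fixF σ ↔ σ c = c := Iff.rfl

/-- The special isometries fixing the orthogonal of `S` pointwise. -/
def GS (hf : IsSkewForm σ f) (S : Submodule F (ι → F)) : Subgroup (GL ι F) where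
  carrier := {g | g ∈ sisom hf ∧ ∀ x ∈ perp hf S, ap g x = x}
  one_mem' := ⟨one_mem _, fun x _ => ap_one x⟩
  mul_mem' {g h} hg hh := ⟨mul_mem hg.1 hh.1, fun x hx => by rw [ap_mul, hh.2 x hx, hg.2 x hx]⟩
  inv_mem' {g} hg := ⟨inv_mem hg.1, fun x hx => by
    conv_lhs => rw [← hg.2 x hx]
    rw [ap_inv_ap]⟩

/-- The vectors of `S` orthogonal to `a` and `b`. -/
def mid (hf : IsSkewForm σ f) (S : Submodule F (ι → F)) (a b : ι → F) : Submodule F (ι → F) :=
  S ⊓ (LinearMap.ker (fl hf a) ⊓ LinearMap.ker (fl hf b))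

/-- A hyperbolic pair of `S`. -/
structure IsPair (f : (ι → F) → (ι → F) → F) (S : Submodule F (ι → F)) (a b : ι → F) : Prop where
  ha : a ∈ S
  hb : b ∈ S
  haa : f a a = 0
  hbb : f b b = 0
  hba : f b a = 1

lemma mem_mid {hf : IsSkewForm σ f} {S : Submodule F (ι → F)} {a b x : ι → F} :
    x ∈ mid hf S a b ↔ x ∈ S ∧ f x a = 0 ∧ f x b = 0 := Iff.rfl

open Classical in
/-- The Eichler element of two vectors of `S` and a scalar; `1` unless they form a valid datum. -/
noncomputable def el (hf : IsSkewForm σ f) (S : Submodule F (ι → F)) (u v : ι → F) (c : F) :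
    GS hf S :=
  if h : u ∈ S ∧ v ∈ S ∧ f u u = 0 ∧ f v u = 0 ∧ c - σ c = f v v then
    ⟨E hf u v c h.2.2.1 h.2.2.2.1, E_mem hf h.2.2.2.2, fun x hx => by
      rw [ap_E hf, hx u h.1, hx v h.2.1]; simp⟩
  else 1

variable (hf : IsSkewForm σ f) {S : Submodule F (ι → F)}
include hf

lemma exists_scalar_ne : ∃ t : F, σ t ≠ t := by
  by_contra h
  push Not at h
  exact hf.ne_refl (RingEquiv.ext h)

lemma f_GS (g : GS hf S) (x y : ι → F) : f (ap (g : GL ι F) x) (ap (g : GL ι F) y) = f x y :=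
  mem_isom_iff.1 g.2.1.1 x y

lemma ap_GS_mem [Finite F] (g : GS hf S) {x : ι → F} (hx : x ∈ S) : ap (g : GL ι F) x ∈ S :=
  mem_of_forall_perp hf fun p hp => by
    rw [← g.2.2 p hp, f_GS hf g, (eq_zero_comm hf)]
    exact hp x hx

lemma ap_el {u v : ι → F} {c : F} (hu : u ∈ S) (hv : v ∈ S) (huu : f u u = 0) (hvu : f v u = 0)
    (hc : c - σ c = f v v) (x : ι → F) :
    ap (el hf S u v c : GL ι F) x = x + f x u • v + f x v • u + (c * f x u) • u := by
  rw [el, dif_pos ⟨hu, hv, huu, hvu, hc⟩]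
  exact ap_E (hu := huu) (hvu := hvu) hf x

lemma el_not {u v : ι → F} {c : F}
    (h : ¬ (u ∈ S ∧ v ∈ S ∧ f u u = 0 ∧ f v u = 0 ∧ c - σ c = f v v)) : el hf S u v c = 1 :=
  dif_neg h

lemma gs_ext {g h : GS hf S} (he : ∀ x, ap (g : GL ι F) x = ap (h : GL ι F) x) : g = h :=
  Subtype.ext (gl_ext he)

lemma valid_add {v v' : ι → F} {c c' : F} (hc : c - σ c = f v v)
    (hc' : c' - σ c' = f v' v') :
    (c + c' + f v' v) - σ (c + c' + f v' v) = f (v + v') (v + v') := by
  rw [map_add, map_add, hf.add_left, add_right hf, add_right hf, ← hc, ← hc',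
    show σ (f v' v) = -f v v' by rw [hf.skew v v', neg_neg]]
  ring

lemma valid_fix {c : F} (hc : σ c = c) : c - σ c = f (0 : ι → F) 0 := by
  rw [hc, sub_self, zero_left hf]

lemma el_mul {u v v' : ι → F} {c c' : F} (hu : u ∈ S) (hv : v ∈ S) (hv' : v' ∈ S)
    (huu : f u u = 0) (hvu : f v u = 0) (hvu' : f v' u = 0) (hc : c - σ c = f v v)
    (hc' : c' - σ c' = f v' v') :
    el hf S u v c * el hf S u v' c' = el hf S u (v + v') (c + c' + f v' v) := by
  refine gs_ext hf fun x => ?_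
  have h : f (v + v') u = 0 := by rw [hf.add_left, hvu, hvu', add_zero]
  rw [Subgroup.coe_mul, ap_mul, ap_el hf hu hv' huu hvu' hc', ap_el hf hu hv huu hvu hc,
    ap_el hf hu (S.add_mem hv hv') huu h (valid_add hf hc hc')]
  simp only [hf.add_left, hf.smul_left, add_right hf, huu, hvu', (eq_zero_comm hf).mp hvu]
  module

lemma el_zero {u : ι → F} (hu : u ∈ S) (huu : f u u = 0) : el hf S u 0 0 = 1 := by
  refine gs_ext hf fun x => ?_
  rw [ap_el hf hu S.zero_mem huu (zero_left hf u) (valid_fix hf (map_zero σ))]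
  simp [zero_right hf]

lemma el_inv {u v : ι → F} {c : F} (hu : u ∈ S) (hv : v ∈ S) (huu : f u u = 0) (hvu : f v u = 0)
    (hc : c - σ c = f v v) : (el hf S u v c)⁻¹ = el hf S u (-v) (-σ c) := by
  refine inv_eq_of_mul_eq_one_right ?_
  rw [el_mul hf hu hv (S.neg_mem hv) huu hvu (by rw [neg_left hf, hvu, neg_zero]) hc
    (by rw [map_neg, hf.involutive, neg_left hf, neg_right hf, neg_neg, ← hc]; ring),
    add_neg_cancel, neg_left hf, ← hc, show c + -σ c + -(c - σ c) = 0 by ring, el_zero hf hu huu]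

lemma el_conj [Finite F] (g : GS hf S) {u v : ι → F} {c : F} (hu : u ∈ S) (hv : v ∈ S)
    (huu : f u u = 0) (hvu : f v u = 0) (hc : c - σ c = f v v) :
    g * el hf S u v c * g⁻¹ = el hf S (ap (g : GL ι F) u) (ap (g : GL ι F) v) c := by
  refine gs_ext hf fun x => ?_
  obtain ⟨y, rfl⟩ : ∃ y, ap (g : GL ι F) y = x := ⟨_, ap_ap_inv _ x⟩
  rw [Subgroup.coe_mul, Subgroup.coe_mul, ap_mul, ap_mul, Subgroup.coe_inv, ap_inv_ap,
    ap_el hf hu hv huu hvu hc, ap_el hf (ap_GS_mem hf g hu) (ap_GS_mem hf g hv)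
    (by rw [f_GS hf g, huu]) (by rw [f_GS hf g, hvu]) (by rw [f_GS hf g, hc]),
    f_GS hf g, f_GS hf g]
  simp only [ap_add, ap_smul]

lemma el_smul_fst {u v : ι → F} {c : F} (α : F) (hu : u ∈ S) (hv : v ∈ S)
    (huu : f u u = 0) (hvu : f v u = 0) (hc : c - σ c = f v v) :
    el hf S (α • u) v c = el hf S u (σ α • v) (α * σ α * c) := by
  refine gs_ext hf fun x => ?_
  rw [ap_el hf (S.smul_mem α hu) hv (isotropic_smul hf huu α)
      (by rw [smul_right hf, hvu, mul_zero]) hc,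
    ap_el hf hu (S.smul_mem _ hv) huu (by rw [hf.smul_left, hvu, mul_zero]) (by
      rw [map_mul, map_mul, hf.involutive, hf.smul_left, smul_right hf, hf.involutive, ← hc]; ring)]
  simp only [smul_right hf, hf.involutive]
  module

section Pair

variable {a b : ι → F} (P : IsPair f S a b)
include P

lemma IsPair.hab : f a b = -1 := by rw [hf.skew, P.hba, map_one]

lemma IsPair.fst_ne_zero : a ≠ 0 := fun h => by
  have := P.hba
  rw [h, zero_right hf] at this
  exact zero_ne_one this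

omit hf P in
/-- The projection to the vectors orthogonal to the pair. -/
def proj (f : (ι → F) → (ι → F) → F) (a b x : ι → F) : ι → F := x - f x a • b + f x b • a

lemma proj_mem {x : ι → F} (hx : x ∈ S) : proj f a b x ∈ mid hf S a b := by
  refine ⟨S.add_mem (S.sub_mem hx (S.smul_mem _ P.hb)) (S.smul_mem _ P.ha), ?_, ?_⟩
  · simp [proj, hf.add_left, sub_left hf, hf.smul_left, P.hba, P.haa]
  · simp [proj, hf.add_left, sub_left hf, hf.smul_left, P.hbb, P.hab hf]

lemma proj_of_mem {x : ι → F} (hx : x ∈ mid hf S a b) : proj f a b x = x := by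
  simp [proj, (mem_mid.1 hx).2.1, (mem_mid.1 hx).2.2]

lemma proj_right {x y : ι → F} (hx : x ∈ mid hf S a b) : f x (proj f a b y) = f x y := by
  simp [proj, add_right hf, sub_right hf, smul_right hf, (mem_mid.1 hx).2.1, (mem_mid.1 hx).2.2]

lemma decomp (x : ι → F) : x = f x a • b + (-f x b) • a + proj f a b x := by
  simp only [proj]; module

lemma mid_nondeg [Finite F] (hS : Cfsg.Geo.IsNondegenerateOn f S) :
    Cfsg.Geo.IsNondegenerateOn f (mid hf S a b) := by
  intro x hx hx0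
  obtain ⟨y, hy, hne⟩ := (hS x (mem_mid.1 hx).1 hx0).2
  have h : f x (proj f a b y) ≠ 0 := by rwa [proj_right hf P hx]
  exact ⟨⟨_, proj_mem hf P hy, fun h0 => h ((eq_zero_comm hf).1 h0)⟩, ⟨_, proj_mem hf P hy, h⟩⟩

lemma finrank_mid : finrank F (mid hf S a b) + 2 = finrank F S := by
  let L : S →ₗ[F] F × F := ((fl hf a).prod (fl hf b)).comp S.subtype
  have hL : Function.Surjective L := fun p =>
    ⟨⟨p.1 • b + (-p.2) • a, S.add_mem (S.smul_mem _ P.hb) (S.smul_mem _ P.ha)⟩, by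
      simp [L, hf.add_left, hf.smul_left, neg_left hf, P.hba, P.hbb, P.haa, P.hab hf]⟩
  have hmap : L.ker.map S.subtype = mid hf S a b := by
    ext x
    constructor
    · rintro ⟨y, hy, rfl⟩
      exact ⟨y.2, congrArg Prod.fst hy, congrArg Prod.snd hy⟩
    · rintro ⟨h, h1, h2⟩
      exact ⟨⟨x, h⟩, Prod.ext h1 h2, rfl⟩
  have h := L.finrank_range_add_finrank_ker
  rw [LinearMap.range_eq_top.2 hL, finrank_top, Module.finrank_prod, Module.finrank_self] at h
  rw [← hmap, ← (Submodule.equivMapOfInjective _ S.injective_subtype _).finrank_eq]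
  omega

lemma mid_el_valid {m : ι → F} {c : F} (hm : m ∈ mid hf S a b) (hc : c - σ c = f m m) :
    a ∈ S ∧ m ∈ S ∧ f a a = 0 ∧ f m a = 0 ∧ c - σ c = f m m :=
  ⟨P.ha, (mem_mid.1 hm).1, P.haa, (mem_mid.1 hm).2.1, hc⟩

lemma el_apply_snd {m : ι → F} {c : F} (hm : m ∈ mid hf S a b) (hc : c - σ c = f m m) :
    ap (el hf S a m c : GL ι F) b = b + m + c • a := by
  rw [ap_el hf P.ha (mem_mid.1 hm).1 P.haa (mem_mid.1 hm).2.1 hc, P.hba,
    (eq_zero_comm hf).mp (mem_mid.1 hm).2.2]
  simp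

lemma el_injective {m m' : ι → F} {c c' : F} (hm : m ∈ mid hf S a b) (hm' : m' ∈ mid hf S a b)
    (hc : c - σ c = f m m) (hc' : c' - σ c' = f m' m')
    (h : el hf S a m c = el hf S a m' c') : m = m' ∧ c = c' := by
  have e := congrArg (fun g : GS hf S => ap (g : GL ι F) b) h
  simp only [el_apply_snd hf P hm hc, el_apply_snd hf P hm' hc'] at e
  have e1 := congrArg (fun x => f x b) e
  simp only [hf.add_left, hf.smul_left, (mem_mid.1 hm).2.2, (mem_mid.1 hm').2.2, P.hbb,
    P.hab hf] at e1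
  have hcc : c = c' := by linear_combination -e1
  subst hcc
  exact ⟨by simpa using e, rfl⟩

/-- The torus element of a scalar, with the determinant repaired on an anisotropic vector. -/
theorem exists_torus {e : ι → F} (he : e ∈ mid hf S a b) (hee : f e e ≠ 0) {α : F} (hα : α ≠ 0) :
    ∃ s : GS hf S, ap (s : GL ι F) a = α • a ∧ ap (s : GL ι F) b = (σ α)⁻¹ • b ∧
      ap (s : GL ι F) e = (σ α / α) • e ∧
      ∀ x ∈ mid hf S a b, (f x e = 0 ∨ σ α = α) → ap (s : GL ι F) x = x := by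
  obtain ⟨heS, hea, heb⟩ := mem_mid.1 he
  have hsα : σ α ≠ 0 := (map_ne_zero_iff _ σ.injective).2 hα
  set φ1 : (ι → F) →ₗ[F] F := (1 - α) • fl hf b with hφ1
  set φ2 : (ι → F) →ₗ[F] F := ((σ α)⁻¹ - 1) • fl hf a with hφ2
  set φ3 : (ι → F) →ₗ[F] F := ((σ α / α - 1) / f e e) • fl hf e with hφ3
  have h1 : 1 + φ1 a = α := by simp [hφ1, P.hab hf]
  have h2 : 1 + φ2 b = (σ α)⁻¹ := by simp [hφ2, P.hba]
  have h3 : 1 + φ3 e = σ α / α := by
    simp [hφ3, div_mul_cancel₀ _ hee]
  set g := dil a φ1 (by rw [h1]; exact hα) * dil b φ2 (by rw [h2]; exact inv_ne_zero hsα) *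
    dil e φ3 (by rw [h3]; exact div_ne_zero hsα hα) with hg
  have hap : ∀ x, ap g x = x + ((1 - α) * f x b) • a + (((σ α)⁻¹ - 1) * f x a) • b
      + ((σ α / α - 1) / f e e * f x e) • e := by
    intro x
    simp [hg, ap_mul, ap_dil, hφ1, hφ2, hφ3, hf.add_left, hf.smul_left, heb, hea, P.hbb]
    abel
  have hdet : g ∈ Cfsg.Geo.specialLinear ι F := by
    rw [mem_specialLinear_iff, hg, Units.val_mul, Units.val_mul, Matrix.det_mul, Matrix.det_mul,
      det_of_ap _ a φ1 (ap_dil a φ1 _), det_of_ap _ b φ2 (ap_dil b φ2 _),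
      det_of_ap _ e φ3 (ap_dil e φ3 _), h1, h2, h3]
    field_simp
  have hiso : g ∈ isom f := by
    intro x y
    change f (ap g x) (ap g y) = f x y
    rw [hap, hap]
    have r1 : f b x = -σ (f x b) := hf.skew b x
    have r2 : f a x = -σ (f x a) := hf.skew a x
    simp only [hf.add_left, add_right hf, hf.smul_left, smul_right hf, map_mul, map_sub, map_div₀,
      map_inv₀, map_one, hf.involutive, P.haa, P.hbb, P.hba, P.hab hf, hea, heb,
      (eq_zero_comm hf).mp hea, (eq_zero_comm hf).mp heb, hf.skew a y, hf.skew b y, hf.skew e y,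
      skew_self hf e]
    field_simp
    ring
  refine ⟨⟨g, ⟨hiso, hdet⟩, fun x hx => ?_⟩, ?_, ?_, ?_, fun x hx hcase => ?_⟩
  · rw [hap, hx a P.ha, hx b P.hb, hx e heS]; simp
  · change ap g a = _
    rw [hap, P.haa, P.hab hf, (eq_zero_comm hf).mp hea]
    module
  · change ap g b = _
    rw [hap, P.hba, P.hbb, (eq_zero_comm hf).mp heb]
    module
  · change ap g e = _
    rw [hap, hea, heb, div_mul_cancel₀ _ hee]
    module
  · change ap g x = x
    rw [hap, (mem_mid.1 hx).2.1, (mem_mid.1 hx).2.2]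
    rcases hcase with h | h
    · rw [h]; simp
    · rw [h, div_self hα]; simp

end Pair

end CfsgLib.MinIndexUnitary
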