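import Cfsg.Agent.Lib.MinIndex.Unitary.Basic
import Cfsg.Agent.Lib.MinIndex.Orth.Duality

/-!
Counting vectors of given norm, the commutator pairing of the root group and the orbit of a subgroup
of the fixed field under multiplication.
-/

set_option autoImplicit false
set_option linter.unusedSectionVars false

namespace CfsgLib.MinIndexUnitary

open CfsgLib.Geometric CfsgLib.Geometric.Unitary Module CfsgLib.MinIndexOrth

variable {ι : Type} [Fintype ι] [DecidableEq ι] {F : Type*} [Field F]
variable {σ : F ≃+* F} {f : (ι → F) → (ι → F) → F}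

/-- The number of fixed scalars. -/
noncomputable abbrev qq (σ : F ≃+* F) : ℕ := Nat.card (fixF σ)

/-- The commutator pairing. -/
def om (f : (ι → F) → (ι → F) → F) (x y : ι → F) : F := f y x - f x y

variable (hf : IsSkewForm σ f)
include hf

lemma om_fix (x y : ι → F) : σ (om f x y) = om f x y := by
  simp only [om, map_sub]
  linear_combination hf.skew x y - hf.skew y x

lemma om_smul_fix {t : F} (ht : σ t = t) (x y : ι → F) : om f (t • x) y = t * om f x y := by
  simp only [om, hf.smul_left, smul_right hf, ht]; ring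

variable [Finite F]

lemma card_field : Nat.card F = qq σ ^ 2 := by
  let g : F →+ F := AddMonoidHom.mk' (fun x => x + σ x) fun x y => by rw [map_add]; abel
  obtain ⟨θ, hθ⟩ := exists_trace hf
  have hr : g.range = fixF σ := by
    ext c
    refine ⟨?_, fun hc => ⟨θ * c, ?_⟩⟩
    · rintro ⟨x, rfl⟩
      show σ (x + σ x) = x + σ x
      rw [map_add, hf.involutive, add_comm]
    · show θ * c + σ (θ * c) = c
      rw [map_mul, show σ c = c from hc, ← add_mul, hθ, one_mul]
  obtain ⟨ζ, hζ, hζs⟩ := exists_skew hf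
  have hk : Nat.card g.ker = qq σ := by
    refine Nat.card_congr
      { toFun := fun x => ⟨(x : F) / ζ, ?_⟩
        invFun := fun c => ⟨(c : F) * ζ, ?_⟩
        left_inv := fun x => Subtype.ext (div_mul_cancel₀ _ hζ)
        right_inv := fun c => Subtype.ext (mul_div_cancel_right₀ _ hζ) }
    · show σ ((x : F) / ζ) = x / ζ
      have h : (x : F) + σ x = 0 := x.2
      rw [map_div₀, hζs, eq_neg_of_add_eq_zero_right h, neg_div_neg_eq]
    · show (c : F) * ζ + σ ((c : F) * ζ) = 0
      rw [map_mul, hζs, show σ (c : F) = c from c.2]; ring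
  rw [← g.ker.card_mul_index, AddSubgroup.index_ker, hr, hk, sq]

lemma two_le_qq : 2 ≤ qq σ := by
  have h := Finite.one_lt_card (α := F)
  rw [card_field hf] at h
  exact (Nat.one_lt_pow_iff two_ne_zero).1 h

lemma card_submodule (W : Submodule F (ι → F)) : Nat.card W = qq σ ^ (2 * finrank F W) := by
  rw [Module.natCard_eq_pow_finrank (K := F), card_field hf, pow_mul]

/-- The scalars completing a vector are a translate of the fixed scalars. -/
lemma card_valid {D : F} (hD : σ D = -D) : Nat.card {c : F // c - σ c = D} = qq σ := by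
  obtain ⟨c₀, hc₀⟩ := exists_sub_eq hf hD
  exact Nat.card_congr
    { toFun := fun c => ⟨(c : F) - c₀, show σ ((c : F) - c₀) = c - c₀ by
        rw [map_sub]; linear_combination hc₀ - c.2⟩
      invFun := fun k => ⟨(k : F) + c₀, by rw [map_add, show σ (k : F) = k from k.2]; linear_combination hc₀⟩
      left_inv := fun c => Subtype.ext (sub_add_cancel _ _)
      right_inv := fun k => Subtype.ext (add_sub_cancel_right _ _) }

variable {S : Submodule F (ι → F)} {a b : ι → F}

/-- The vectors of given norm with a component along `b`. -/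
lemma card_norm_off (P : IsPair f S a b) {D : F} (hD : σ D = -D) :
    Nat.card {v : ι → F // v ∈ S ∧ f v a ≠ 0 ∧ f v v = D}
      = (qq σ ^ 2 - 1) * qq σ ^ (2 * finrank F (mid hf S a b) + 1) := by
  classical
  have hval : ∀ x : ι → F, ∀ β α : F, x ∈ mid hf S a b →
      f (β • b + α • a + x) a = β ∧ f (β • b + α • a + x) b = -α ∧
      f (β • b + α • a + x) (β • b + α • a + x) = β * σ α - σ (β * σ α) + f x x := by
    intro x β α hx
    obtain ⟨-, hxa, hxb⟩ := mem_mid.1 hx
    simp [hf.add_left, add_right hf, hf.smul_left, smul_right hf, P.hba, P.haa, P.hbb, P.hab hf,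
      hxa, hxb, (eq_zero_comm hf).mp hxa, (eq_zero_comm hf).mp hxb, map_mul, hf.involutive]
    ring
  let e : {v : ι → F // v ∈ S ∧ f v a ≠ 0 ∧ f v v = D}
      ≃ {β : F // β ≠ 0} × Σ x : mid hf S a b, {c : F // c - σ c = D - f (x : ι → F) x} :=
    { toFun := fun v => (⟨f v.1 a, v.2.2.1⟩, ⟨⟨proj f a b v.1, proj_mem hf P v.2.1⟩,
        f v.1 a * σ (-f v.1 b), by
          have h := (hval _ (f v.1 a) (-f v.1 b) (proj_mem hf P v.2.1)).2.2
          rw [← decomp hf P, v.2.2.2] at h
          linear_combination -h⟩)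
      invFun := fun p => ⟨p.1.1 • b + σ ((p.2.2 : F) / p.1.1) • a + (p.2.1 : ι → F), by
          refine ⟨S.add_mem (S.add_mem (S.smul_mem _ P.hb) (S.smul_mem _ P.ha)) (mem_mid.1 p.2.1.2).1,
            ?_, ?_⟩
          · rw [(hval _ _ _ p.2.1.2).1]; exact p.1.2
          · rw [(hval _ _ _ p.2.1.2).2.2, hf.involutive, mul_div_cancel₀ _ p.1.2]
            linear_combination p.2.2.2⟩
      left_inv := fun v => Subtype.ext (by
        change f v.1 a • b + σ (f v.1 a * σ (-f v.1 b) / f v.1 a) • a + proj f a b v.1 = _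
        rw [mul_div_cancel_left₀ _ v.2.2.1, hf.involutive, ← decomp hf P])
      right_inv := fun p => by
        obtain ⟨⟨β, hβ⟩, ⟨x, hx⟩, c, hc⟩ := p
        obtain ⟨e1, e2, -⟩ := hval x β (σ (c / β)) hx
        refine Prod.ext (Subtype.ext e1) (Sigma.subtype_ext (Subtype.ext ?_) ?_)
        · change proj f a b _ = x
          rw [proj, e1, e2]; module
        · change f _ a * σ (-f _ b) = c
          rw [e1, e2, neg_neg, hf.involutive, mul_div_cancel₀ _ hβ] }
  have := Fintype.ofFinite (mid hf S a b)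
  rw [Nat.card_congr e, Nat.card_prod, Nat.card_sigma,
    Finset.sum_congr rfl (fun (x : mid hf S a b) _ => card_valid hf
      (show σ (D - f (x : ι → F) x) = -(D - f (x : ι → F) x) by rw [map_sub, hD, skew_self hf]; ring)),
    Finset.sum_const, Finset.card_univ, smul_eq_mul, ← Nat.card_eq_fintype_card,
    card_submodule hf, ← pow_succ]
  congr 1
  have : Fintype F := Fintype.ofFinite F
  rw [← card_field hf, Nat.card_eq_fintype_card, Nat.card_eq_fintype_card]
  simpa using (Fintype.card_subtype_compl (fun β : F => β = 0))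

/-- The commutator pairing takes every fixed value. -/
lemma exists_om_eq {M : Submodule F (ι → F)} (hM : Cfsg.Geo.IsNondegenerateOn f M) {x : ι → F}
    (hx : x ∈ M) (hx0 : x ≠ 0) {c : F} (hc : σ c = c) : ∃ y ∈ M, om f x y = c := by
  obtain ⟨y, hy, hne⟩ := (hM x hx hx0).2
  obtain ⟨θ, hθ⟩ := exists_trace hf
  refine ⟨σ (-(c * θ) / f x y) • y, M.smul_mem _ hy, ?_⟩
  simp only [om, hf.smul_left, smul_right hf, hf.involutive]
  rw [hf.skew y x, div_mul_cancel₀ _ hne]
  have : σ (-(c * θ) / f x y) * σ (f x y) = σ (-(c * θ)) := by rw [← map_mul, div_mul_cancel₀ _ hne]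
  rw [map_neg, map_mul, hc] at this
  linear_combination -this + c * hθ

/-- A subgroup with commutators in a proper subgroup of the fixed scalars is small. -/
lemma sq_card_le {M : Submodule F (ι → F)} (hM : Cfsg.Geo.IsNondegenerateOn f M)
    {K : AddSubgroup F} (hK : K < fixF σ) (A : AddSubgroup M)
    (hA : ∀ x ∈ A, ∀ y ∈ A, om f (x : ι → F) y ∈ K) :
    Nat.card A * Nat.card A ≤ Nat.card M := by
  let β₀ : F →+ F →+ F := AddMonoidHom.mul
  have hβ₀ : ∀ x, (∀ a, chi F (β₀ x a) = 1) → x = 0 := fun x h => eq_zero_of_chi h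
  obtain ⟨t, ht, ht'⟩ : ∃ t, t ∈ perpG β₀ K ∧ t ∉ perpG β₀ (fixF σ) := by
    by_contra h
    push Not at h
    have h1 := card_mul_perpG hβ₀ K
    have h2 := card_mul_perpG hβ₀ (fixF σ)
    have h3 : Nat.card (perpG β₀ K) ≤ Nat.card (perpG β₀ (fixF σ)) := AddSubgroup.card_le_of_le h
    have h4 : Nat.card K < Nat.card (fixF σ) :=
      lt_of_le_of_ne (AddSubgroup.card_le_of_le hK.le) fun e =>
        hK.ne (AddSubgroup.eq_of_le_of_card_ge hK.le e.ge)
    have h5 := Nat.mul_lt_mul_of_lt_of_le h4 h3 Nat.card_pos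
    omega
  let β : M →+ M →+ F := AddMonoidHom.mk' (fun x => AddMonoidHom.mk' (fun y => t * om f (x : ι → F) y)
    (fun y y' => by simp [om, hf.add_left, add_right hf]; ring))
    (fun x x' => AddMonoidHom.ext fun y => by simp [om, hf.add_left, add_right hf]; ring)
  have hβ : ∀ x, (∀ a, chi F (β x a) = 1) → x = 0 := by
    intro x h
    by_contra hx
    apply ht'
    intro c hc
    obtain ⟨y, hy, hyc⟩ := exists_om_eq hf hM x.2 (by simpa using hx) hc
    have := h ⟨y, hy⟩
    change chi F (t * om f (x : ι → F) y) = 1 at this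
    rwa [hyc] at this
  rw [← card_mul_perpG hβ A]
  exact Nat.mul_le_mul_left _ (AddSubgroup.card_le_of_le fun x hx a ha => ht _ (hA x hx a ha))

/-- The conjugates of a proper subgroup of the fixed scalars, weighted by its index. -/
lemma scal_orbit {K : AddSubgroup F} (hK : K < fixF σ) (hK0 : K ≠ ⊥) :
    qq σ < Nat.card ((fun r : F => K.map (AddMonoidHom.mulLeft r)) '' {r | σ r = r ∧ r ≠ 0})
      * (qq σ / Nat.card K) := by
  classical
  let L : AddSubgroup F :=
    { carrier := {x | σ x = x ∧ ∀ k ∈ K, x * k ∈ K}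
      zero_mem' := ⟨map_zero σ, fun k _ => by rw [zero_mul]; exact K.zero_mem⟩
      add_mem' := fun {x y} hx hy => ⟨by rw [map_add, hx.1, hy.1], fun k hk => by
        rw [add_mul]; exact K.add_mem (hx.2 k hk) (hy.2 k hk)⟩
      neg_mem' := fun {x} hx => ⟨by rw [map_neg, hx.1], fun k hk => by
        rw [neg_mul]; exact K.neg_mem (hx.2 k hk)⟩ }
  obtain ⟨⟨k₀, hk₀⟩, hk₀0⟩ := K.ne_bot_iff_exists_ne_zero.1 hK0
  have hk₀' : k₀ ≠ 0 := fun h => hk₀0 (Subtype.ext h)
  obtain ⟨y, hy, hyK⟩ := SetLike.exists_of_lt hK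
  have hcancel : ∀ x ∈ L, x ≠ 0 → ∀ z, x * z ∈ K → z ∈ K := by
    intro x hx hx0 z hz
    obtain ⟨w, hw⟩ := Finite.injective_iff_surjective.1 (show Function.Injective
      (fun k : K => (⟨x * k, hx.2 k k.2⟩ : K)) from fun u v h => Subtype.ext
        (mul_left_cancel₀ hx0 (congrArg Subtype.val h))) ⟨x * z, hz⟩
    exact mul_left_cancel₀ hx0 (congrArg Subtype.val hw) ▸ w.2
  have hLK : Nat.card L ≤ Nat.card K :=
    Nat.card_le_card_of_injective (fun x : L => (⟨(x : F) * k₀, x.2.2 k₀ hk₀⟩ : K))
      fun u v h => Subtype.ext (mul_right_cancel₀ hk₀' (congrArg Subtype.val h))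
  set K' := K.addSubgroupOf (fixF σ)
  have hK' : Nat.card K' = Nat.card K :=
    Nat.card_congr (AddSubgroup.addSubgroupOfEquivOfLe hK.le).toEquiv
  have hidx : Nat.card K * K'.index = qq σ := by rw [← hK']; exact K'.card_mul_index
  have hLi : Nat.card L ≤ K'.index := by
    rw [AddSubgroup.index_eq_card]
    let φ : L →+ (fixF σ) ⧸ K' := (QuotientAddGroup.mk' K').comp
      (AddMonoidHom.mk' (fun x : L => (⟨(x : F) * y, show σ ((x : F) * y) = x * y by
        rw [map_mul, x.2.1, show σ y = y from hy]⟩ : fixF σ)) fun u v => Subtype.ext (add_mul _ _ _))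
    refine Nat.card_le_card_of_injective φ ((injective_iff_map_eq_zero φ).2 fun x hx => ?_)
    by_contra hx0
    exact hyK (hcancel x x.2 (by simpa using hx0) y ((QuotientAddGroup.eq_zero_iff (N := K')
      ⟨(x : F) * y, _⟩).1 hx))
  have hL2 : 2 ≤ Nat.card L := by
    refine Finite.one_lt_card_iff_nontrivial.2 ⟨0, ⟨1, map_one σ, fun k hk => by rwa [one_mul]⟩, ?_⟩
    intro h; exact zero_ne_one (congrArg Subtype.val h)
  set O := (fun r : F => K.map (AddMonoidHom.mulLeft r)) '' {r | σ r = r ∧ r ≠ 0}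
  have hO : qq σ - 1 ≤ Nat.card O * (Nat.card L - 1) := by
    have h1 : qq σ - 1 = Nat.card {r : fixF σ // r ≠ 0} := by
      have := Fintype.ofFinite (fixF σ)
      rw [Nat.card_eq_fintype_card, qq, Nat.card_eq_fintype_card]
      simp
    have h2 : Nat.card L - 1 = Nat.card {r : L // r ≠ 0} := by
      have := Fintype.ofFinite L
      rw [Nat.card_eq_fintype_card, Nat.card_eq_fintype_card]
      simp
    rw [h1, h2, ← Nat.card_prod]
    choose r hr using fun o : O => o.2
    let g : {r : fixF σ // r ≠ 0} → O := fun x =>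
      ⟨_, (x : F), ⟨(x : fixF σ).2, by simpa using x.2⟩, rfl⟩
    have hmem : ∀ x : {r : fixF σ // r ≠ 0}, ((r (g x))⁻¹ * (x : F)) ∈ L := fun x => by
      obtain ⟨⟨hfix, hne⟩, he⟩ := hr (g x)
      refine ⟨by rw [map_mul, map_inv₀, hfix, show σ (x : F) = x from (x : fixF σ).2], fun k hk => ?_⟩
      have : (x : F) * k ∈ K.map (AddMonoidHom.mulLeft (r (g x))) := by
        rw [show K.map (AddMonoidHom.mulLeft (r (g x))) = K.map (AddMonoidHom.mulLeft (x : F)) from he]
        exact ⟨k, hk, rfl⟩
      obtain ⟨k', hk', hk''⟩ := this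
      rw [mul_assoc, ← show r (g x) * k' = (x : F) * k from hk'', inv_mul_cancel_left₀ hne]
      exact hk'
    refine Nat.card_le_card_of_injective (fun x => (g x, (⟨⟨_, hmem x⟩, fun h => ?_⟩ :
      {r : L // r ≠ 0}))) fun u v h => ?_
    · have := congrArg Subtype.val h
      rcases mul_eq_zero.1 this with h | h
      · exact inv_ne_zero (hr (g x)).1.2 h
      · exact x.2 (Subtype.ext h)
    · simp only [Prod.mk.injEq] at h
      obtain ⟨h1, h2⟩ := h
      have h3 := congrArg (fun r : {r : L // r ≠ 0} => ((r : L) : F)) h2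
      simp only [h1] at h3
      exact Subtype.ext (Subtype.ext (mul_left_cancel₀ (inv_ne_zero (hr (g v)).1.2) h3))
  have hk1 : 2 ≤ Nat.card K := hL2.trans hLK
  rw [show qq σ / Nat.card K = K'.index from Nat.div_eq_of_eq_mul_right (by omega) hidx.symm]
  by_contra hle
  rw [not_lt] at hle
  have h1 := Nat.mul_le_mul_right K'.index hO
  rw [mul_assoc, mul_comm (Nat.card L - 1), ← mul_assoc] at h1
  have h2 := h1.trans (Nat.mul_le_mul_right _ hle)
  have h3 : qq σ * K'.index + qq σ ≤ qq σ * Nat.card L + K'.index := by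
    have e1 : (qq σ - 1) * K'.index + K'.index = qq σ * K'.index := by
      rw [← Nat.succ_mul, Nat.succ_eq_add_one, Nat.sub_add_cancel (by have := two_le_qq hf; omega)]
    have e2 : qq σ * (Nat.card L - 1) + qq σ = qq σ * Nat.card L := by
      rw [← Nat.mul_succ, Nat.succ_eq_add_one, Nat.sub_add_cancel (by omega)]
    omega
  have h4 := Nat.mul_le_mul_left (qq σ) hLi
  have h5 : qq σ ≤ K'.index := by omega
  have h6 := Nat.mul_le_mul_right K'.index hk1
  have : 0 < qq σ := by have := two_le_qq hf; omega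
  omega

end CfsgLib.MinIndexUnitary
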