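import Cfsg.Agent.Lib.MinIndex.Unitary.Action

/-!
The values of the invariant of the orbits of the root group: vectors of one norm are covered by few
subgroups only if the plane is small.
-/

set_option autoImplicit false
set_option linter.unusedSectionVars false

namespace CfsgLib.MinIndexUnitary

open CfsgLib.Geometric CfsgLib.Geometric.Unitary Module MulAction CfsgLib.MinIndexOrth
open scoped Pointwise

variable {ι : Type} [Fintype ι] [DecidableEq ι] {F : Type*} [Field F] [Finite F]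
variable {σ : F ≃+* F} {f : (ι → F) → (ι → F) → F}
variable {hf : IsSkewForm σ f} {S : Submodule F (ι → F)} {a b : ι → F}
variable {Ω : Type*} [MulAction (GS hf S) Ω]

/-- The projections occurring at the points with given fixed transvections. -/
noncomputable def vals (hf : IsSkewForm σ f) [MulAction (GS hf S) Ω] (P : IsPair f S a b)
    (K : AddSubgroup F) : Set (AddSubgroup (mid hf S a b)) :=
  az hf P '' {z : Ω | kz hf P z = K}

lemma exists_pair (hS : Cfsg.Geo.IsNondegenerateOn f S) {u : ι → F} (hu : u ∈ S) (hu0 : u ≠ 0)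
    (huu : f u u = 0) (hf : IsSkewForm σ f) : ∃ b, IsPair f S u b := by
  obtain ⟨p, hp, hpu⟩ := (hS u hu hu0).1
  obtain ⟨l, hl⟩ := exists_isotropic_shift hf huu hpu
  set p' := p + l • u
  have hp'u : f p' u ≠ 0 := by rwa [hf.add_left, hf.smul_left, huu, mul_zero, add_zero]
  exact ⟨(f p' u)⁻¹ • p', hu, S.smul_mem _ (S.add_mem hp (S.smul_mem l hu)), huu,
    isotropic_smul hf hl _, by rw [hf.smul_left, inv_mul_cancel₀ hp'u]⟩

/-- A subgroup of the real plane of an isotropic pair with small commutators has at most `q`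
elements. -/
lemma card_real_le (hf : IsSkewForm σ f) {K : AddSubgroup F} (hK : K < fixF σ) (h2 : (2 : F) ≠ 0) {u v : ι → F}
    (hu : f u u = 0) (hv : f v v = 0) (hvu : f v u = 1) (A : AddSubgroup (fixF σ × fixF σ))
    (hA : ∀ p ∈ A, ∀ r ∈ A,
      om f ((p.1 : F) • u + (p.2 : F) • v) ((r.1 : F) • u + (r.2 : F) • v) ∈ K) :
    Nat.card A ≤ qq σ := by
  let β₀ : F →+ F →+ F := AddMonoidHom.mul
  have hβ₀ : ∀ x, (∀ a, chi F (β₀ x a) = 1) → x = 0 := fun x h => eq_zero_of_chi h
  obtain ⟨t, ht, ht'⟩ : ∃ t, t ∈ perpG β₀ K ∧ t ∉ perpG β₀ (fixF σ) := by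
    by_contra h
    push Not at h
    have h1 := card_mul_perpG hβ₀ K
    have h2 := card_mul_perpG hβ₀ (fixF σ)
    have h3 : Nat.card (perpG β₀ K) ≤ Nat.card (perpG β₀ (fixF σ)) := AddSubgroup.card_le_of_le h
    have h4 : Nat.card K < Nat.card (fixF σ) :=
      lt_of_le_of_ne (AddSubgroup.card_le_of_le hK.le) fun e =>
        hK.ne (AddSubgroup.eq_of_le_of_card_ge hK.le e.ge)
    have h5 := Nat.mul_lt_mul_of_lt_of_le h4 h3 Nat.card_pos
    omega
  have huv : f u v = -1 := by rw [hf.skew, hvu, map_one]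
  have hval : ∀ p r : fixF σ × fixF σ,
      om f ((p.1 : F) • u + (p.2 : F) • v) ((r.1 : F) • u + (r.2 : F) • v)
        = 2 * ((p.1 : F) * r.2 - p.2 * r.1) := fun p r => by
    simp only [om, hf.add_left, add_right hf, hf.smul_left, smul_right hf, hu, hv, hvu, huv,
      show σ (p.1 : F) = p.1 from p.1.2, show σ (p.2 : F) = p.2 from p.2.2,
      show σ (r.1 : F) = r.1 from r.1.2, show σ (r.2 : F) = r.2 from r.2.2]
    ring
  let β : (fixF σ × fixF σ) →+ (fixF σ × fixF σ) →+ F :=
    AddMonoidHom.mk' (fun p => AddMonoidHom.mk' (fun r => t * (2 * ((p.1 : F) * r.2 - p.2 * r.1)))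
      (fun r r' => by simp; ring)) (fun p p' => AddMonoidHom.ext fun r => by simp; ring)
  have hβ : ∀ p, (∀ r, chi F (β p r) = 1) → p = 0 := by
    intro p h
    have hfix2 : σ (2 : F) = 2 := map_ofNat σ 2
    by_contra hp
    apply ht'
    intro c hc
    have hc' : σ c = c := hc
    by_cases h1 : (p.1 : F) = 0
    · have h2p : (p.2 : F) ≠ 0 := fun h0 => hp (Prod.ext (Subtype.ext h1) (Subtype.ext h0))
      have hr : -(c / (2 * p.2)) ∈ fixF σ := by
        show σ (-(c / (2 * (p.2 : F)))) = _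
        rw [map_neg, map_div₀, map_mul, hfix2, hc', show σ (p.2 : F) = p.2 from p.2.2]
      have := h (⟨_, hr⟩, 0)
      change chi F (t * (2 * ((p.1 : F) * ((0 : fixF σ) : F) - p.2 * -(c / (2 * p.2))))) = 1 at this
      change chi F (t * c) = 1
      rwa [show t * (2 * ((p.1 : F) * ((0 : fixF σ) : F) - p.2 * -(c / (2 * p.2)))) = t * c by
        rw [h1]; field_simp; ring] at this
    · have hr : c / (2 * p.1) ∈ fixF σ := by
        show σ (c / (2 * (p.1 : F))) = _
        rw [map_div₀, map_mul, hfix2, hc', show σ (p.1 : F) = p.1 from p.1.2]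
      have := h (0, ⟨_, hr⟩)
      change chi F (t * (2 * ((p.1 : F) * (c / (2 * p.1)) - p.2 * ((0 : fixF σ) : F)))) = 1 at this
      change chi F (t * c) = 1
      rwa [show t * (2 * ((p.1 : F) * (c / (2 * p.1)) - p.2 * ((0 : fixF σ) : F))) = t * c by
        rw [ZeroMemClass.coe_zero]; field_simp; ring] at this
  have h := card_mul_perpG hβ A
  rw [Nat.card_prod] at h
  refine Nat.mul_self_le_mul_self_iff.1 (le_trans (Nat.mul_le_mul_left _ ?_) h.le)
  exact AddSubgroup.card_le_of_le fun p hp r hr => ht _ (hval p r ▸ hA p hp r hr)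

variable (P : IsPair f S a b)
include P

lemma smul_mem_az {g : GS hf S} {α : F} (hα : α ≠ 0) (hga : ap (g : GL ι F) a = α • a) {z : Ω}
    {x : mid hf S a b} (hx : x ∈ az hf P z) {y : mid hf S a b}
    (hy : (y : ι → F) = σ α • ap (g : GL ι F) x) : y ∈ az hf P (g • z) := by
  obtain ⟨c, hc, h⟩ := hx
  obtain ⟨hxS, hxa, -⟩ := mem_mid.1 x.2
  refine ⟨α * σ α * c, ?_, ?_⟩
  · rw [hy, hf.smul_left, smul_right hf, f_GS hf g, hf.involutive, ← hc, map_mul, map_mul,
      hf.involutive]
    ring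
  · have e : g * el hf S a x c * g⁻¹ = el hf S a y (α * σ α * c) := by
      rw [el_conj hf g P.ha hxS P.haa hxa hc, hga, el_smul_fst hf α P.ha (ap_GS_mem hf g hxS) P.haa
        (by
          have h1 : f (ap (g : GL ι F) x) (ap (g : GL ι F) a) = 0 := by rw [f_GS hf g, hxa]
          rw [hga, smul_right hf, mul_eq_zero, EmbeddingLike.map_eq_zero_iff] at h1
          exact h1.resolve_left hα)
        (by rw [f_GS hf g, hc]), ← hy]
    rw [← e, mul_smul, mul_smul, inv_smul_smul, h]

lemma incl_mem_vals (g : GS hf (mid hf S a b)) (z : Ω) :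
    az hf P (incl a b g • z) ∈ vals (Ω := Ω) hf P (kz hf P z) := by
  refine ⟨_, ?_, rfl⟩
  show kz hf P (incl a b g • z) = kz hf P z
  rw [kz_smul P one_ne_zero (by rw [(incl_fix P g).1, one_smul]), map_one, mul_one]
  ext x
  simp

variable [Finite Ω]

/-- A covering of vectors by the values. -/
lemma cover {K : AddSubgroup F} (T : Set (mid hf S a b)) {k : ℕ}
    (hcov : ∀ y ∈ T, ∃ A ∈ vals (Ω := Ω) hf P K, y ∈ A)
    (hk : ∀ A ∈ vals (Ω := Ω) hf P K, Nat.card {y : mid hf S a b // y ∈ A ∧ y ∈ T} ≤ k) :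
    Nat.card T ≤ Nat.card (vals (Ω := Ω) hf P K) * k := by
  classical
  have hfin : Finite (vals (Ω := Ω) hf P K) := (Set.toFinite _).to_subtype
  have := Fintype.ofFinite (vals (Ω := Ω) hf P K)
  choose A hA hAy using hcov
  calc Nat.card T ≤ Nat.card (Σ A : vals (Ω := Ω) hf P K, {y : mid hf S a b // y ∈ A.1 ∧ y ∈ T}) :=
        Nat.card_le_card_of_injective (fun y => ⟨⟨A y y.2, hA y y.2⟩, y, hAy y y.2, y.2⟩)
          fun u v h => Subtype.ext (congrArg (fun p => (p.2 : mid hf S a b)) h)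
    _ = ∑ A : vals (Ω := Ω) hf P K, Nat.card {y : mid hf S a b // y ∈ A.1 ∧ y ∈ T} := Nat.card_sigma
    _ ≤ ∑ _A : vals (Ω := Ω) hf P K, k := Finset.sum_le_sum fun A _ => hk A.1 A.2
    _ = _ := by rw [Finset.sum_const, Finset.card_univ, smul_eq_mul, Nat.card_eq_fintype_card]

omit [Finite Ω] in
/-- The projection of a stabiliser is isotropic for the commutator, hence small. -/
lemma card_az_le (hS : Cfsg.Geo.IsNondegenerateOn f S) {z : Ω} (hz : kz hf P z < fixF σ) :
    Nat.card (az hf P z) ≤ qq σ ^ finrank F (mid hf S a b) := by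
  have h := sq_card_le hf (mid_nondeg hf P hS) hz (az hf P z) fun x hx y hy => om_mem_kz P z hx hy
  rw [card_submodule hf, two_mul, pow_add] at h
  exact Nat.mul_self_le_mul_self_iff.1 h

omit [Finite Ω] in
lemma card_nonzero_le (hS : Cfsg.Geo.IsNondegenerateOn f S) {K : AddSubgroup F} (hK : K < fixF σ)
    {A : AddSubgroup (mid hf S a b)} (hA : A ∈ vals (Ω := Ω) hf P K) {T : Set (mid hf S a b)}
    (hT : (0 : mid hf S a b) ∉ T) :
    Nat.card {y : mid hf S a b // y ∈ A ∧ y ∈ T} + 1 ≤ qq σ ^ finrank F (mid hf S a b) := by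
  classical
  obtain ⟨z, rfl, rfl⟩ := hA
  refine le_trans ?_ (card_az_le P hS hK)
  have := Fintype.ofFinite (az hf P z)
  have := Fintype.ofFinite {y : mid hf S a b // y ∈ az hf P z ∧ y ∈ T}
  have h : Nat.card {y : mid hf S a b // y ∈ az hf P z ∧ y ∈ T}
      < Nat.card (az hf P z) := by
    rw [Nat.card_eq_fintype_card, Nat.card_eq_fintype_card]
    refine Fintype.card_lt_of_injective_of_notMem (fun y => ⟨y.1, y.2.1⟩)
      (fun u v h => Subtype.ext (Subtype.mk.inj h)) (b := 0) ?_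
    rintro ⟨y, hy⟩
    have h0 : y.1 = 0 := congrArg Subtype.val hy
    exact hT (h0 ▸ y.2.2)
  omega

/-- In dimension three and more the values are at least `q²` in number. -/
theorem sq_le_vals (hS : Cfsg.Geo.IsNondegenerateOn f S) (he : 3 ≤ finrank F (mid hf S a b))
    {z : Ω} (hz : kz hf P z < fixF σ) (hA : az hf P z ≠ ⊥) :
    qq σ ^ 2 ≤ Nat.card (vals (Ω := Ω) hf P (kz hf P z)) := by
  classical
  obtain ⟨⟨x, hx⟩, hx0'⟩ := (az hf P z).ne_bot_iff_exists_ne_zero.1 hA
  have hx0 : (x : ι → F) ≠ 0 := fun h => hx0' (Subtype.ext (Subtype.ext h))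
  have hM := mid_nondeg hf P hS
  obtain ⟨u, hu, hu0, huu⟩ := exists_isotropic hf hM (by omega)
  obtain ⟨v, P'⟩ := exists_pair hM hu hu0 huu hf
  set T : Set (mid hf S a b) := {y | (y : ι → F) ≠ 0 ∧ f (y : ι → F) y = f (x : ι → F) x}
  have hcov : ∀ y ∈ T, ∃ A ∈ vals (Ω := Ω) hf P (kz hf P z), y ∈ A := by
    rintro y ⟨hy0, hyy⟩
    obtain ⟨g, -, hg⟩ := exists_move_el hf hM he (H := ⊤) (fun _ _ _ => trivial) x.2 y.2 hx0 hy0 hyy
    refine ⟨_, incl_mem_vals P g z, smul_mem_az P one_ne_zero (by rw [(incl_fix P g).1, one_smul]) hx ?_⟩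
    rw [map_one, one_smul]
    exact hg.symm
  have hT0 : (0 : mid hf S a b) ∉ T := fun h => h.1 rfl
  have hcount := cover P T hcov (k := qq σ ^ finrank F (mid hf S a b) - 1) fun A hA => by
    have := card_nonzero_le P hS hz hA hT0; omega
  have hlow : (qq σ ^ 2 - 1) * qq σ ^ (2 * finrank F (mid hf (mid hf S a b) u v) + 1) ≤ Nat.card T := by
    rw [← card_norm_off hf P' (skew_self hf (x : ι → F))]
    refine Nat.card_le_card_of_injective (fun w => ⟨⟨w.1, w.2.1⟩, fun h0 => w.2.2.1 (by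
      rw [show (w.1 : ι → F) = 0 from h0, zero_left hf]), w.2.2.2⟩) fun p q h =>
        Subtype.ext (congrArg (fun t : T => ((t : mid hf S a b) : ι → F)) h)
  have hfr := finrank_mid hf P'
  set e := finrank F (mid hf S a b)
  set e' := finrank F (mid hf (mid hf S a b) u v)
  have h := hlow.trans hcount
  by_contra hlt
  rw [not_le] at hlt
  have h1 : Nat.card (vals (Ω := Ω) hf P (kz hf P z)) ≤ qq σ ^ 2 - 1 := by omega
  have h2 := h.trans (Nat.mul_le_mul_right _ h1)
  have hq := two_le_qq hf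
  have h3 : 0 < qq σ ^ 2 - 1 := by
    have := Nat.pow_le_pow_left hq 2; omega
  have h4 := Nat.le_of_mul_le_mul_left h2 h3
  have h5 : qq σ ^ e ≤ qq σ ^ (2 * e' + 1) := Nat.pow_le_pow_right (by omega) (by omega)
  have h6 : 0 < qq σ ^ e := by positivity
  omega

end CfsgLib.MinIndexUnitary
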