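import Cfsg.Agent.Lib.MinIndex.Unitary.Vals

/-!
A middle subspace of dimension two: the values are at least `q + 1` in number.
-/

set_option autoImplicit false
set_option linter.unusedSectionVars false

namespace CfsgLib.MinIndexUnitary

open CfsgLib.Geometric CfsgLib.Geometric.Unitary Module MulAction
open scoped Pointwise

variable {ι : Type} [Fintype ι] [DecidableEq ι] {F : Type*} [Field F] [Finite F]
variable {σ : F ≃+* F} {f : (ι → F) → (ι → F) → F}
variable {hf : IsSkewForm σ f} {S M : Submodule F (ι → F)} {a b u v : ι → F}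

/-- Vectors of a hyperbolic plane with the same norm and related second coordinates. -/
lemma exists_move_coord (P : IsPair f M u v) {α β α' β' p r : F} (hp : σ p = p) (hr : σ r = r)
    (hβ' : β' = p * α + r * β) (hβ0 : β' ≠ 0)
    (hn : β * σ α - σ β * α = β' * σ α' - σ β' * α') :
    ∃ g : GS hf M, ap (g : GL ι F) (α • u + β • v) = α' • u + β' • v := by
  have stepa : ∀ α β c : F, σ c = c →
      ap (el hf M u 0 c : GL ι F) (α • u + β • v) = (α + c * β) • u + β • v := fun α β c hc => by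
    rw [ap_el hf P.ha M.zero_mem P.haa (zero_left hf u) (valid_fix hf hc)]
    simp only [hf.add_left, hf.smul_left, P.haa, P.hba, zero_right hf, smul_zero, zero_smul]
    module
  have stepb : ∀ α β c : F, σ c = c →
      ap (el hf M v 0 c : GL ι F) (α • u + β • v) = α • u + (β - c * α) • v := fun α β c hc => by
    rw [ap_el hf P.hb M.zero_mem P.hbb (zero_left hf v) (valid_fix hf hc)]
    simp only [hf.add_left, hf.smul_left, P.hbb, P.hab hf, zero_right hf, smul_zero, zero_smul]
    module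
  have main : ∀ β p r : F, σ p = p → σ r = r → p ≠ 0 → β' = p * α + r * β →
      β * σ α - σ β * α = β' * σ α' - σ β' * α' →
      ∃ g : GS hf M, ap (g : GL ι F) (α • u + β • v) = α' • u + β' • v := by
    intro β p r hp hr hp0 hβ' hn
    obtain ⟨c, hcd⟩ : ∃ c, c = (r - 1) / p := ⟨_, rfl⟩
    have hc : σ c = c := by rw [hcd, map_div₀, map_sub, hr, hp, map_one]
    obtain ⟨α1, hα1⟩ : ∃ α1, α1 = α + c * β := ⟨_, rfl⟩
    have hb1 : β - -p * α1 = β' := by rw [hβ', hα1, hcd]; field_simp; ring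
    have hk : σ ((α' - α1) / β') = (α' - α1) / β' := by
      rw [map_div₀, div_eq_div_iff ((map_ne_zero_iff _ σ.injective).2 hβ0) hβ0, map_sub]
      have e : β' * σ α1 - σ β' * α1 = β * σ α - σ β * α := by
        rw [← hb1, hα1, map_sub, map_mul, map_neg, map_add, map_mul, hc, hp]; ring
      linear_combination -hn - e
    refine ⟨el hf M u 0 ((α' - α1) / β') * el hf M v 0 (-p) * el hf M u 0 c, ?_⟩
    rw [Subgroup.coe_mul, Subgroup.coe_mul, ap_mul, ap_mul, stepa _ _ _ hc, ← hα1,
      stepb _ _ _ (by rw [map_neg, hp]), hb1, stepa _ _ _ hk, div_mul_cancel₀ _ hβ0, add_sub_cancel]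
  by_cases hp0 : p = 0
  · have hr0 : r ≠ 0 := fun h => hβ0 (by rw [hβ', hp0, h]; ring)
    obtain ⟨g, hg⟩ := main (β + α) (-r) r (by rw [map_neg, hr]) hr (neg_ne_zero.2 hr0)
      (by rw [hβ', hp0]; ring) (by rw [← hn, map_add]; ring)
    refine ⟨g * el hf M v 0 (-1), ?_⟩
    rw [Subgroup.coe_mul, ap_mul, stepb _ _ _ (by simp), show β - -1 * α = β + α by ring, hg]
  · exact main β p r hp hr hp0 hβ' hn

/-- The real vectors of a hyperbolic plane are one orbit. -/
lemma exists_move_real (P : IsPair f M u v) {l m : F} (hl : σ l = l) (hm : σ m = m)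
    (h : ¬(l = 0 ∧ m = 0)) : ∃ g : GS hf M, ap (g : GL ι F) u = l • u + m • v := by
  by_cases hm0 : m = 0
  · have hl0 : l ≠ 0 := fun h0 => h ⟨h0, hm0⟩
    obtain ⟨g, hg⟩ := exists_move_coord (hf := hf) P (α := 1) (β := 0) (α' := l) (β' := 1)
      (map_one σ) (map_zero σ) (by ring) one_ne_zero
      (by simp [hl])
    refine ⟨el hf M v 0 l⁻¹ * g, ?_⟩
    rw [one_smul, zero_smul, add_zero] at hg
    rw [Subgroup.coe_mul, ap_mul, hg,
      ap_el hf P.hb M.zero_mem P.hbb (zero_left hf v) (valid_fix hf (by rw [map_inv₀, hl]))]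
    simp only [hf.add_left, hf.smul_left, P.hbb, P.hab hf, zero_right hf, smul_zero, zero_smul, hm0]
    rw [show l⁻¹ * (l * -1 + 1 * 0) = -1 by field_simp; ring]
    module
  · obtain ⟨g, hg⟩ := exists_move_coord (hf := hf) P (α := 1) (β := 0) (α' := l) (β' := m)
      hm (map_zero σ) (by ring) hm0 (by simp [hl, hm])
    exact ⟨g, by rw [one_smul, zero_smul, add_zero] at hg; exact hg⟩

/-- The double torus. -/
lemma exists_torus_two (P : IsPair f S a b) (P' : IsPair f (mid hf S a b) u v) {α : F} (hα : α ≠ 0) :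
    ∃ g : GS hf S, ap (g : GL ι F) a = α • a ∧ ap (g : GL ι F) u = σ α • u := by
  obtain ⟨huS, hua, hub⟩ := mem_mid.1 P'.ha
  obtain ⟨hvS, hva, hvb⟩ := mem_mid.1 P'.hb
  have hsα : σ α ≠ 0 := (map_ne_zero_iff _ σ.injective).2 hα
  set φ1 : (ι → F) →ₗ[F] F := (1 - α) • fl hf b with hφ1
  set φ2 : (ι → F) →ₗ[F] F := ((σ α)⁻¹ - 1) • fl hf a with hφ2
  set φ3 : (ι → F) →ₗ[F] F := (1 - σ α) • fl hf v with hφ3
  set φ4 : (ι → F) →ₗ[F] F := (α⁻¹ - 1) • fl hf u with hφ4
  have h1 : 1 + φ1 a = α := by simp [hφ1, P.hab hf]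
  have h2 : 1 + φ2 b = (σ α)⁻¹ := by simp [hφ2, P.hba]
  have h3 : 1 + φ3 u = σ α := by simp [hφ3, P'.hab hf]
  have h4 : 1 + φ4 v = α⁻¹ := by simp [hφ4, P'.hba]
  set g := dil a φ1 (by rw [h1]; exact hα) * dil b φ2 (by rw [h2]; exact inv_ne_zero hsα) *
    (dil u φ3 (by rw [h3]; exact hsα) * dil v φ4 (by rw [h4]; exact inv_ne_zero hα)) with hg
  have hap : ∀ x, ap g x = x + ((1 - α) * f x b) • a + (((σ α)⁻¹ - 1) * f x a) • b
      + ((1 - σ α) * f x v) • u + ((α⁻¹ - 1) * f x u) • v := by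
    intro x
    simp [hg, ap_mul, ap_dil, hφ1, hφ2, hφ3, hφ4, hf.add_left, hf.smul_left, hub, hua, hvb, hva,
      P.hbb, P'.hbb]
    abel
  have hdet : g ∈ Cfsg.Geo.specialLinear ι F := by
    rw [mem_specialLinear_iff, hg, Units.val_mul, Units.val_mul, Units.val_mul, Matrix.det_mul,
      Matrix.det_mul, Matrix.det_mul, det_of_ap _ a φ1 (ap_dil a φ1 _),
      det_of_ap _ b φ2 (ap_dil b φ2 _), det_of_ap _ u φ3 (ap_dil u φ3 _),
      det_of_ap _ v φ4 (ap_dil v φ4 _), h1, h2, h3, h4]
    field_simp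
  have hiso : g ∈ isom f := by
    intro x y
    change f (ap g x) (ap g y) = f x y
    rw [hap, hap]
    simp only [hf.add_left, add_right hf, hf.smul_left, smul_right hf, map_mul, map_sub,
      map_inv₀, map_one, hf.involutive, P.haa, P.hbb, P.hba, P.hab hf, P'.haa, P'.hbb, P'.hba,
      P'.hab hf, hua, hub, hva, hvb, (eq_zero_comm hf).mp hua, (eq_zero_comm hf).mp hub,
      (eq_zero_comm hf).mp hva, (eq_zero_comm hf).mp hvb, hf.skew a y, hf.skew b y, hf.skew u y,
      hf.skew v y]
    field_simp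
    ring
  refine ⟨⟨g, ⟨hiso, hdet⟩, fun x hx => ?_⟩, ?_, ?_⟩
  · rw [hap, hx a P.ha, hx b P.hb, hx u huS, hx v hvS]; simp
  · change ap g a = _
    rw [hap, P.haa, P.hab hf, (eq_zero_comm hf).mp hua, (eq_zero_comm hf).mp hva]
    module
  · change ap g u = _
    rw [hap, hua, hub, P'.haa, P'.hab hf]
    module

variable {Ω : Type*} [MulAction (GS hf S) Ω] [Finite Ω] (P : IsPair f S a b)
include P

/-- A subgroup with an isotropic vector makes the values at least `q + 1`. -/
lemma succ_le_vals_iso (hS : Cfsg.Geo.IsNondegenerateOn f S) (he : finrank F (mid hf S a b) = 2)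
    {K : AddSubgroup F} (hK : K < fixF σ) {z : Ω} (hzK : kz hf P z = K) {x : mid hf S a b}
    (hx : x ∈ az hf P z) (hx0 : (x : ι → F) ≠ 0) (hxx : f (x : ι → F) x = 0) :
    qq σ + 1 ≤ Nat.card (vals (Ω := Ω) hf P K) := by
  classical
  subst hzK
  have hM := mid_nondeg hf P hS
  obtain ⟨v, P'⟩ := exists_pair hM x.2 hx0 hxx hf
  have hd := finrank_mid hf P'
  rw [he] at hd
  have hbot : mid hf (mid hf S a b) (x : ι → F) v = ⊥ := Submodule.finrank_eq_zero.1 (by omega)
  have hcoord : ∀ y : mid hf S a b,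
      (y : ι → F) = (-f (y : ι → F) v) • (x : ι → F) + f (y : ι → F) x • v := fun y => by
    have h := proj_mem hf P' y.2
    rw [hbot, Submodule.mem_bot] at h
    conv_lhs => rw [decomp hf P' (y : ι → F), h, add_zero, add_comm]
  have hq := two_le_qq hf
  have hsq : 0 < qq σ ^ 2 - 1 := by have := Nat.pow_le_pow_left hq 2; omega
  have he2 : qq σ ^ finrank F (mid hf S a b) = qq σ ^ 2 := by rw [he]
  let vec : fixF σ × fixF σ → mid hf S a b := fun p =>
    ⟨(p.1 : F) • (x : ι → F) + (p.2 : F) • v,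
      Submodule.add_mem _ (Submodule.smul_mem _ _ x.2) (Submodule.smul_mem _ _ P'.hb)⟩
  have hvinj : Function.Injective vec := fun p r h => by
    have e : (p.1 : F) • (x : ι → F) + (p.2 : F) • v = (r.1 : F) • (x : ι → F) + (r.2 : F) • v :=
      congrArg Subtype.val h
    have e1 := congrArg (fun w => f w (x : ι → F)) e
    have e2 := congrArg (fun w => f w v) e
    simp [hf.add_left, hf.smul_left, P'.haa, P'.hba, P'.hbb, P'.hab hf] at e1 e2
    exact Prod.ext e2 e1
  have hreach : ∀ p : fixF σ × fixF σ, p ≠ 0 → ∃ g : GS hf (mid hf S a b),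
      ap (g : GL ι F) x = (vec p : ι → F) := fun p hp =>
    exists_move_real P' p.1.2 p.2.2 fun h => hp (Prod.ext (Subtype.ext h.1) (Subtype.ext h.2))
  by_cases h2 : (2 : F) = 0
  · -- every isotropic vector is covered
    set T : Set (mid hf S a b) := {y | (y : ι → F) ≠ 0 ∧ f (y : ι → F) y = 0} with hT
    have hT0 : (0 : mid hf S a b) ∉ T := fun h => h.1 rfl
    have hsqrt : ∀ d : F, ∃ s : F, s * s = d := fun d => by
      have hinj : Function.Injective (fun s : F => s * s) := fun s t h => by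
        have h' : (s - t) * (s - t) = 0 := by linear_combination h + (t * t - s * t) * h2
        exact sub_eq_zero.1 (mul_self_eq_zero.1 h')
      exact Finite.injective_iff_surjective.1 hinj d
    have hcov : ∀ y ∈ T, ∃ A ∈ vals (Ω := Ω) hf P (kz hf P z), y ∈ A := by
      rintro y ⟨hy0, hyy⟩
      obtain ⟨l0, p, hl0, hy⟩ : ∃ (l : F) (p : fixF σ × fixF σ), l ≠ 0 ∧
          (y : ι → F) = l • (vec p : ι → F) := by
        by_cases hβ : f (y : ι → F) x = 0
        · refine ⟨-f (y : ι → F) v, (⟨1, map_one σ⟩, 0), fun h => hy0 ?_, ?_⟩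
          · rw [hcoord y, h, hβ, zero_smul, zero_smul, add_zero]
          · conv_lhs => rw [hcoord y, hβ]
            simp [vec]
        · have hreal : σ (-f (y : ι → F) v / f (y : ι → F) x) = -f (y : ι → F) v / f (y : ι → F) x := by
            rw [hcoord y] at hyy
            simp only [hf.add_left, add_right hf, hf.smul_left, smul_right hf, P'.haa, P'.hbb,
              P'.hba, P'.hab hf] at hyy
            rw [map_div₀, div_eq_div_iff ((map_ne_zero_iff _ σ.injective).2 hβ) hβ]
            linear_combination hyy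
          refine ⟨f (y : ι → F) x, (⟨_, hreal⟩, ⟨1, map_one σ⟩), hβ, ?_⟩
          conv_lhs => rw [hcoord y]
          show _ = f (y : ι → F) x • ((-f (y : ι → F) v / f (y : ι → F) x) • (x : ι → F) + (1 : F) • v)
          rw [smul_add, smul_smul, smul_smul, mul_div_cancel₀ _ hβ, mul_one]
      obtain ⟨ρ, hρ⟩ := hsqrt (l0 * σ l0)
      have hρ0 : ρ ≠ 0 := fun h => by
        rw [h, mul_zero] at hρ
        exact mul_ne_zero hl0 ((map_ne_zero_iff _ σ.injective).2 hl0) hρ.symm
      have hρfix : σ ρ = ρ := by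
        have e : σ ρ * σ ρ = ρ * ρ := by rw [← map_mul, hρ, map_mul, hf.involutive, mul_comm]
        have h' : (σ ρ - ρ) * (σ ρ - ρ) = 0 := by linear_combination e + (ρ * ρ - σ ρ * ρ) * h2
        exact sub_eq_zero.1 (mul_self_eq_zero.1 h')
      obtain ⟨s, hs⟩ := hsqrt (l0 / ρ)
      have hs0 : s ≠ 0 := fun h => by
        rw [h, mul_zero] at hs
        exact div_ne_zero hl0 hρ0 hs.symm
      have hNs : s * σ s = 1 := by
        have e : (s * σ s) * (s * σ s) = 1 := by
          rw [show (s * σ s) * (s * σ s) = (s * s) * σ (s * s) by rw [map_mul]; ring, hs, map_div₀, hρfix]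
          field_simp
          linear_combination -hρ
        have h' : (s * σ s - 1) * (s * σ s - 1) = 0 := by
          linear_combination e + (1 - s * σ s) * h2
        exact sub_eq_zero.1 (mul_self_eq_zero.1 h')
      obtain ⟨h, hha, hhx⟩ := exists_torus_two P P' ((map_ne_zero_iff _ σ.injective).2 hs0 : σ s ≠ 0)
      have hp0 : ((⟨ρ * p.1, by show σ (ρ * p.1) = _; rw [map_mul, hρfix, show σ (p.1 : F) = p.1 from p.1.2]⟩,
          ⟨ρ * p.2, by show σ (ρ * p.2) = _; rw [map_mul, hρfix, show σ (p.2 : F) = p.2 from p.2.2]⟩) :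
          fixF σ × fixF σ) ≠ 0 := fun h0 => hy0 (by
        have e1 : ρ * p.1 = 0 := congrArg (fun r : fixF σ × fixF σ => (r.1 : F)) h0
        have e2 : ρ * p.2 = 0 := congrArg (fun r : fixF σ × fixF σ => (r.2 : F)) h0
        rw [hy]
        show l0 • ((p.1 : F) • (x : ι → F) + (p.2 : F) • v) = 0
        rw [(mul_eq_zero.1 e1).resolve_left hρ0, (mul_eq_zero.1 e2).resolve_left hρ0]
        simp)
      obtain ⟨g, hg⟩ := hreach _ hp0
      have hga : ap (incl a b g * h : GS hf S) a = σ s • a := by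
        rw [Subgroup.coe_mul, ap_mul, hha, ap_smul, (incl_fix P g).1]
      refine ⟨az hf P ((incl a b g * h) • z), ⟨_, ?_, rfl⟩,
        smul_mem_az P ((map_ne_zero_iff _ σ.injective).2 hs0) hga hx ?_⟩
      · show kz hf P _ = _
        rw [kz_smul P ((map_ne_zero_iff _ σ.injective).2 hs0) hga, hf.involutive, mul_comm, hNs]
        ext c; simp
      · rw [hf.involutive, Subgroup.coe_mul, ap_mul, hhx, hf.involutive, ap_smul,
          show ap (incl a b g : GL ι F) x = ap (g : GL ι F) x from rfl, hg, hy]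
        show l0 • ((p.1 : F) • (x : ι → F) + (p.2 : F) • v)
          = s • s • ((ρ * p.1) • (x : ι → F) + (ρ * p.2) • v)
        rw [smul_smul, hs, ← smul_smul ρ, ← smul_smul ρ, ← smul_add, smul_smul, div_mul_cancel₀ _ hρ0]
    have hcount := cover P T hcov (k := qq σ ^ 2 - 1) fun A hA => by
      have := card_nonzero_le P hS hK hA hT0; rw [he2] at this; omega
    have hlow : (qq σ + 1) * (qq σ ^ 2 - 1) ≤ Nat.card T := by
      have h1 := card_norm_off hf P' (D := 0) (by simp)
      rw [hbot, finrank_bot, mul_zero, zero_add, pow_one] at h1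
      have hFc : Nat.card {l : F // l ≠ 0} = qq σ ^ 2 - 1 := by
        have : Fintype F := Fintype.ofFinite F
        rw [← card_field hf, Nat.card_eq_fintype_card, Nat.card_eq_fintype_card]
        simp
      rw [show (qq σ + 1) * (qq σ ^ 2 - 1) = (qq σ ^ 2 - 1) * qq σ + (qq σ ^ 2 - 1) by ring,
        ← h1, ← hFc, ← Nat.card_sum]
      refine Nat.card_le_card_of_injective (Sum.elim
        (fun w => ⟨⟨w.1, w.2.1⟩, fun h0 => w.2.2.1 (by
          rw [show (w.1 : ι → F) = 0 from h0, zero_left hf]), w.2.2.2⟩)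
        (fun l => ⟨⟨(l : F) • (x : ι → F), Submodule.smul_mem _ _ x.2⟩,
          smul_ne_zero l.2 hx0, isotropic_smul hf hxx _⟩)) ?_
      rintro (p | p) (r | r) h <;>
        have e := congrArg (fun t : T => ((t : mid hf S a b) : ι → F)) h <;>
        simp only [Sum.elim_inl, Sum.elim_inr] at e
      · exact congrArg Sum.inl (Subtype.ext e)
      · exact absurd (by rw [e, hf.smul_left, hxx, mul_zero]) p.2.2.1
      · exact absurd (by rw [← e, hf.smul_left, hxx, mul_zero]) r.2.2.1
      · exact congrArg Sum.inr (Subtype.ext (smul_left_injective F hx0 e))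
    exact Nat.le_of_mul_le_mul_right (hlow.trans hcount) hsq
  · -- the real vectors are covered
    set T : Set (mid hf S a b) := vec '' {p | p ≠ 0} with hT
    have hT0 : (0 : mid hf S a b) ∉ T := by
      rintro ⟨p, hp, h⟩
      exact hp (hvinj (h.trans (Subtype.ext (by simp [vec]))))
    have hcov : ∀ y ∈ T, ∃ A ∈ vals (Ω := Ω) hf P (kz hf P z), y ∈ A := by
      rintro _ ⟨p, hp, rfl⟩
      obtain ⟨g, hg⟩ := hreach p hp
      refine ⟨_, incl_mem_vals P g z, smul_mem_az P one_ne_zero (by rw [(incl_fix P g).1, one_smul]) hx ?_⟩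
      rw [map_one, one_smul]
      exact hg.symm
    let vecHom : fixF σ × fixF σ →+ mid hf S a b := AddMonoidHom.mk' vec fun p r => Subtype.ext (by
      simp [vec]; module)
    have hcount := cover P T hcov (k := qq σ - 1) fun A hA => by
      obtain ⟨w, hw, rfl⟩ := hA
      have h := card_real_le hf hK h2 P'.haa P'.hbb P'.hba ((az hf P w).comap vecHom) fun p hp r hr => by
        have := om_mem_kz P w hp hr
        rw [show kz hf P w = kz hf P z from hw] at this
        exact this
      have hlt : Nat.card {y : mid hf S a b // y ∈ az hf P w ∧ y ∈ T}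
          < Nat.card ((az hf P w).comap vecHom) := by
        have := Fintype.ofFinite ((az hf P w).comap vecHom)
        have := Fintype.ofFinite {y : mid hf S a b // y ∈ az hf P w ∧ y ∈ T}
        choose pre hpre hpre' using fun y : {y : mid hf S a b // y ∈ az hf P w ∧ y ∈ T} => y.2.2
        rw [Nat.card_eq_fintype_card, Nat.card_eq_fintype_card]
        refine Fintype.card_lt_of_injective_of_notMem
          (fun y => ⟨pre y, show vec (pre y) ∈ az hf P w by rw [hpre']; exact y.2.1⟩)
          (fun y y' h => Subtype.ext (by rw [← hpre' y, ← hpre' y', Subtype.mk.inj h])) (b := 0) ?_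
        rintro ⟨y, hy⟩
        exact hpre y (Subtype.mk.inj hy)
      omega
    have hlow : qq σ ^ 2 - 1 = Nat.card T := by
      rw [hT, Nat.card_image_of_injective hvinj]
      have := Fintype.ofFinite (fixF σ)
      simp only [Set.coe_setOf, Nat.card_eq_fintype_card, qq]
      simp [sq]
    refine Nat.le_of_mul_le_mul_right (le_trans ?_ (hlow.le.trans hcount)) (show 0 < qq σ - 1 by omega)
    rw [← Nat.sq_sub_sq, one_pow]

/-- In dimension two the values are at least `q + 1` in number. -/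
theorem succ_le_vals (hS : Cfsg.Geo.IsNondegenerateOn f S) (he : finrank F (mid hf S a b) = 2)
    (hq : 3 ≤ qq σ) {z : Ω} (hz : kz hf P z < fixF σ) (hA : az hf P z ≠ ⊥) :
    qq σ + 1 ≤ Nat.card (vals (Ω := Ω) hf P (kz hf P z)) := by
  classical
  by_cases hiso : ∃ w : Ω, kz hf P w = kz hf P z ∧
      ∃ y ∈ az hf P w, (y : ι → F) ≠ 0 ∧ f (y : ι → F) y = 0
  · obtain ⟨w, hw, y, hy, hy0, hyy⟩ := hiso
    exact succ_le_vals_iso P hS he hz hw hy hy0 hyy
  have hno : ∀ w : Ω, kz hf P w = kz hf P z → ∀ y ∈ az hf P w, (y : ι → F) ≠ 0 →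
      f (y : ι → F) y ≠ 0 := fun w hw y hy hy0 hyy => hiso ⟨w, hw, y, hy, hy0, hyy⟩
  have hM := mid_nondeg hf P hS
  obtain ⟨u, hu, hu0, huu⟩ := exists_isotropic hf hM (by omega)
  obtain ⟨v, P'⟩ := exists_pair hM hu hu0 huu hf
  have hd := finrank_mid hf P'
  rw [he] at hd
  have hbot : mid hf (mid hf S a b) u v = ⊥ := Submodule.finrank_eq_zero.1 (by omega)
  have hcoord : ∀ y : mid hf S a b,
      (y : ι → F) = (-f (y : ι → F) v) • u + f (y : ι → F) u • v := fun y => by
    have h := proj_mem hf P' y.2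
    rw [hbot, Submodule.mem_bot] at h
    conv_lhs => rw [decomp hf P' (y : ι → F), h, add_zero, add_comm]
  have hnorm : ∀ y : mid hf S a b, f (y : ι → F) y
      = f (y : ι → F) u * σ (-f (y : ι → F) v) - σ (f (y : ι → F) u) * -f (y : ι → F) v := fun y => by
    conv_lhs => rw [hcoord y]
    simp only [hf.add_left, add_right hf, hf.smul_left, smul_right hf, P'.haa, P'.hbb, P'.hba,
      P'.hab hf]
    ring
  -- a class of vectors is covered
  have hclass : ∀ (w : Ω), kz hf P w = kz hf P z → ∀ x ∈ az hf P w, (x : ι → F) ≠ 0 →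
      ∀ y : mid hf S a b, f (y : ι → F) y = f (x : ι → F) x →
      ∃ A ∈ vals (Ω := Ω) hf P (kz hf P z), y ∈ A := by
    intro w hw x hx hx0 y hyy
    have hxx := hno w hw x hx hx0
    set α := -f (x : ι → F) v
    set β := f (x : ι → F) u
    set α' := -f (y : ι → F) v
    set β' := f (y : ι → F) u
    have hD : β * σ α - σ β * α ≠ 0 := by rwa [← hnorm x]
    have hsD : σ (β * σ α - σ β * α) = -(β * σ α - σ β * α) := by
      rw [map_sub, map_mul, map_mul, hf.involutive, hf.involutive]; ring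
    have hn : β * σ α - σ β * α = β' * σ α' - σ β' * α' := by rw [← hnorm x, ← hnorm y, hyy]
    have hβ0 : β' ≠ 0 := fun h => hD (by rw [hn, h, map_zero]; ring)
    obtain ⟨g, hg⟩ := exists_move_coord (hf := hf) P' (α := α) (β := β) (α' := α') (β' := β')
      (p := (β * σ β' - σ β * β') / (β * σ α - σ β * α))
      (r := (β' * σ α - σ β' * α) / (β * σ α - σ β * α))
      (by rw [map_div₀, hsD, map_sub, map_mul, map_mul, hf.involutive, hf.involutive]; field_simp; ring)
      (by rw [map_div₀, hsD, map_sub, map_mul, map_mul, hf.involutive, hf.involutive]; field_simp; ring)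
      (by field_simp; ring) hβ0 hn
    rw [← hcoord x, ← hcoord y] at hg
    refine ⟨_, hw ▸ incl_mem_vals P g w,
      smul_mem_az P one_ne_zero (by rw [(incl_fix P g).1, one_smul]) hx ?_⟩
    rw [map_one, one_smul]
    exact hg.symm
  have hcard : ∀ D : F, σ D = -D → (qq σ ^ 2 - 1) * qq σ
      ≤ Nat.card {y : mid hf S a b | (y : ι → F) ≠ 0 ∧ f (y : ι → F) y = D} := fun D hD => by
    have h1 := card_norm_off hf P' (D := D) hD
    rw [hbot, finrank_bot, mul_zero, zero_add, pow_one] at h1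
    rw [← h1]
    exact Nat.card_le_card_of_injective (fun w => ⟨⟨w.1, w.2.1⟩, fun h0 => w.2.2.1 (by
      rw [show (w.1 : ι → F) = 0 from h0, zero_left hf]), w.2.2.2⟩) fun p r h =>
        Subtype.ext (congrArg (fun t : {y : mid hf S a b | (y : ι → F) ≠ 0 ∧ f (y : ι → F) y = D} =>
          ((t : mid hf S a b) : ι → F)) h)
  obtain ⟨⟨x, hx⟩, hx0'⟩ := (az hf P z).ne_bot_iff_exists_ne_zero.1 hA
  have hx0 : (x : ι → F) ≠ 0 := fun h => hx0' (Subtype.ext (Subtype.ext h))
  set D := f (x : ι → F) x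
  have hD0 : D ≠ 0 := hno z rfl x hx hx0
  set T : Set (mid hf S a b) := {y | (y : ι → F) ≠ 0 ∧ f (y : ι → F) y = D}
  have hq2 : qq σ ^ 2 = qq σ * qq σ := sq _
  have hsq : 8 ≤ qq σ ^ 2 - 1 := by have := Nat.mul_le_mul hq hq; omega
  have he2 : qq σ ^ finrank F (mid hf S a b) = qq σ ^ 2 := by rw [he]
  by_contra hlt
  rw [not_le] at hlt
  by_cases htwo : ∃ w : Ω, kz hf P w = kz hf P z ∧
      ∃ y ∈ az hf P w, (y : ι → F) ≠ 0 ∧ f (y : ι → F) y ≠ D
  · obtain ⟨w, hw, y, hy, hy0, hyD⟩ := htwo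
    set T' : Set (mid hf S a b) := {y' | (y' : ι → F) ≠ 0 ∧ f (y' : ι → F) y' = f (y : ι → F) y}
    have hdis : Disjoint T T' := Set.disjoint_left.2 fun t ht ht' => hyD (ht'.2.symm.trans ht.2)
    have hT0 : (0 : mid hf S a b) ∉ T ∪ T' := fun h => h.elim (fun h => h.1 rfl) fun h => h.1 rfl
    have hcount := cover P (T ∪ T') (fun t ht => ht.elim (fun h => hclass z rfl x hx hx0 t h.2)
      fun h => hclass w hw y hy hy0 t h.2) (k := qq σ ^ 2 - 1) fun A hA => by
        have := card_nonzero_le P hS hz hA hT0; rw [he2] at this; omega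
    rw [Nat.card_coe_set_eq, Set.ncard_union_eq hdis, ← Nat.card_coe_set_eq, ← Nat.card_coe_set_eq]
      at hcount
    have h1 : (qq σ ^ 2 - 1) * qq σ ≤ Nat.card T := hcard _ (skew_self hf (x : ι → F))
    have h2 : (qq σ ^ 2 - 1) * qq σ ≤ Nat.card T' := hcard _ (skew_self hf (y : ι → F))
    have h3 : Nat.card (vals (Ω := Ω) hf P (kz hf P z)) * (qq σ ^ 2 - 1) ≤ qq σ * (qq σ ^ 2 - 1) :=
      Nat.mul_le_mul_right _ (by omega)
    have h4 : 0 < (qq σ ^ 2 - 1) * qq σ := Nat.mul_pos (by omega) (by omega)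
    rw [mul_comm (qq σ) (qq σ ^ 2 - 1)] at h3
    omega
  push Not at htwo
  have hT0 : (0 : mid hf S a b) ∉ T := fun h => h.1 rfl
  have hcount := cover P T (fun t ht => hclass z rfl x hx hx0 t ht.2) (k := 3) fun A hA => by
    obtain ⟨w, hw, rfl⟩ := hA
    by_contra hgt
    have key : ∀ y ∈ az hf P w, y ≠ 0 → f (y : ι → F) y = D := fun y hy hy0 =>
      htwo w hw y hy fun h => hy0 (Subtype.ext h)
    have hN := Fintype.ofFinite {y : mid hf S a b // y ∈ az hf P w ∧ y ∈ T}
    rw [not_le, Nat.card_eq_fintype_card] at hgt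
    obtain ⟨⟨p, hp, hpT⟩, -⟩ := (Finset.card_pos (s := (Finset.univ :
      Finset {y : mid hf S a b // y ∈ az hf P w ∧ y ∈ T}))).1 (by rw [Finset.card_univ]; omega)
    have avoid : ∀ l : Finset (mid hf S a b), l.card ≤ 3 → ∃ r, r ∈ az hf P w ∧ r ∈ T ∧ r ∉ l := by
      intro l hl
      by_contra hcon
      push Not at hcon
      have := Finset.card_le_card_of_injOn (s := (Finset.univ :
        Finset {y : mid hf S a b // y ∈ az hf P w ∧ y ∈ T})) (t := l) (fun y => y.1)
        (fun y _ => hcon y.1 y.2.1 y.2.2) (fun y _ y' _ h => Subtype.ext h)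
      rw [Finset.card_univ] at this
      omega
    have p0 : p ≠ 0 := fun h => hT0 (h ▸ hpT)
    obtain ⟨r, hr, hrT, hrl⟩ := avoid {p, -p} (le_trans Finset.card_le_two (by norm_num))
    simp only [Finset.mem_insert, Finset.mem_singleton, not_or] at hrl
    have r0 : r ≠ 0 := fun h => hT0 (h ▸ hrT)
    have e1 := key _ (add_mem hp hr) fun h => hrl.2 (eq_neg_of_add_eq_zero_right h)
    have e2 := key _ (sub_mem hp hr) fun h => hrl.1 (sub_eq_zero.1 h).symm
    have hp' := key p hp p0
    have hr' := key r hr r0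
    simp only [Submodule.coe_add, Submodule.coe_sub, hf.add_left, add_right hf, sub_left hf,
      sub_right hf, hp', hr'] at e1 e2
    have h2 : (2 : F) = 0 :=
      (mul_eq_zero.1 (show (2 : F) * D = 0 by linear_combination e1 + e2)).resolve_right hD0
    obtain ⟨s, hs, hsT, hsl⟩ := avoid {p, r, p + r} Finset.card_le_three
    simp only [Finset.mem_insert, Finset.mem_singleton, not_or] at hsl
    have s0 : s ≠ 0 := fun h => hT0 (h ▸ hsT)
    have hneg : ∀ t : mid hf S a b, -t = t := fun t => by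
      refine neg_eq_of_add_eq_zero_left (Subtype.ext ?_)
      show (t : ι → F) + (t : ι → F) = 0
      rw [← two_smul F (t : ι → F), h2, zero_smul]
    have hs' := key s hs s0
    have e3 := key _ (add_mem hp hs) fun h => hsl.1 ((eq_neg_of_add_eq_zero_right h).trans (hneg p))
    have e4 := key _ (add_mem hr hs) fun h => hsl.2.1 ((eq_neg_of_add_eq_zero_right h).trans (hneg r))
    have e5 := key _ (add_mem (add_mem hp hr) hs) fun h =>
      hsl.2.2 ((eq_neg_of_add_eq_zero_right h).trans (hneg _))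
    simp only [Submodule.coe_add, hf.add_left, add_right hf, hp', hr', hs'] at e3 e4 e5
    exact hD0 (by linear_combination e1 + e3 + e4 - e5 - (0 : F) * h2)
  have h1 := hcard _ (skew_self hf (x : ι → F))
  have h2 := h1.trans hcount
  have h3 : 8 * qq σ ≤ (qq σ ^ 2 - 1) * qq σ := Nat.mul_le_mul_right _ hsq
  omega

end CfsgLib.MinIndexUnitary
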